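import Cfsg.Agent.H531.Sq.TwE6

/-!
# `p²` divides a character degree of `F₄(q)`, `p` not dividing `q² + q + 1` (helper730, S4844)

Harish-Chandra induction from `J = {0} ∪ {2, 3}`, after helper531.
-/

set_option autoImplicit false
set_option linter.unusedSectionVars false

namespace Cfsg.Agent.H730.Sq

open Cfsg Cfsg.Lie Cfsg.Agent.Nodes Cfsg.Agent.H53.HC Cfsg.Agent.H53.HC.ExcRows Cfsg.Agent.H35.ExcIdx Cfsg.Agent.H35.PoinNum
open Cfsg.Agent.Nodes.RGDChev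
open CoxeterSystem Cfsg.Agent.ChevalleyStructure.CoxeterGeom Cfsg.Agent.Tits.Roots Cfsg.Agent.Tits.Core
  Cfsg.Agent.Tits.Exchange Cfsg.Agent.Nodes.Reps Cfsg.Agent.Nodes.BNOf Cfsg.Agent.Nodes.StabComb
open Cfsg.Agent.Characters Cfsg.Agent.Nodes.LeviDec Cfsg.Agent.H531.Sq

universe u

/-- the degree up to small factors -/
def XD (q : ℕ) : ℕ := (q - 1) * (q ^ 3 + 1) * (q ^ 8 - 1) * (q ^ 12 - 1)

/-- the part of the order prime to the characteristic -/
def PF (q : ℕ) : ℕ := (q ^ 2 - 1) * (q ^ 6 - 1) * (q ^ 8 - 1) * (q ^ 12 - 1)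

theorem PF_eq {q : ℕ} (hq : 2 ≤ q) : PF q = XD q * (q ^ 2 - 1) * (q ^ 2 + q + 1) := by
  obtain ⟨x, rfl⟩ := Nat.exists_eq_add_of_le hq
  have e1 : (2 + x) ^ 6 - 1 = (1 + x) * ((2 + x) ^ 3 + 1) * ((2 + x) ^ 2 + (2 + x) + 1) := by
    apply Nat.sub_eq_of_eq_add; ring
  have e2 : 2 + x - 1 = 1 + x := by omega
  unfold PF XD
  rw [e1, e2]
  ring

theorem XD_dvd {p q : ℕ} (hp : p.Prime) (hq : 2 ≤ q) (hpq : ¬ p ∣ q) (h3 : ¬ p ∣ q ^ 2 + q + 1) (hd : p ^ 2 ∣ PF q) :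
    (p ≠ 3 → p ^ 2 ∣ XD q) ∧ (p = 3 → p ^ 3 ∣ XD q) := by
  have hev : ∀ n m : ℕ, n ∣ m → p ∣ q ^ n - 1 → p ∣ q ^ m - 1 := fun n m h h1 => h1.trans (Nat.pow_sub_one_dvd_pow_sub_one q h)
  constructor
  · intro hp3
    by_cases h2 : p ∣ q ^ 2 - 1
    · have e : p ^ 2 = 1 * 1 * p * p := by ring
      unfold XD
      rw [e]
      exact mul_dvd_mul (mul_dvd_mul (mul_dvd_mul (one_dvd _) (one_dvd _)) (hev 2 8 (by norm_num) h2))
        (hev 2 12 (by norm_num) h2)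
    · rw [PF_eq hq, mul_assoc] at hd
      refine Nat.Coprime.dvd_of_dvd_mul_right ?_ hd
      exact Nat.Coprime.pow_left 2 (Nat.Coprime.mul_right ((Nat.Prime.coprime_iff_not_dvd hp).2 h2)
        ((Nat.Prime.coprime_iff_not_dvd hp).2 h3))
  · rintro rfl
    have hq1 : 3 ∣ q + 1 := by
      have h1 : q % 3 = 0 ∨ q % 3 = 1 ∨ q % 3 = 2 := by omega
      rcases h1 with h1 | h1 | h1
      · exact absurd (Nat.dvd_of_mod_eq_zero h1) hpq
      · exfalso
        apply h3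
        apply Nat.dvd_of_mod_eq_zero
        rw [Nat.add_mod, Nat.add_mod (q ^ 2), Nat.pow_mod, h1]
      · omega
    have h2 : 3 ∣ q ^ 2 - 1 := by
      have : q ^ 2 - 1 = (q + 1) * (q - 1) := by
        have := Nat.sq_sub_sq q 1
        simpa using this
      rw [this]
      exact Dvd.dvd.mul_right hq1 _
    have h4 : 3 ∣ q ^ 3 + 1 := by
      have := (by decide : Odd 3).nat_add_dvd_pow_add_pow q 1
      rw [one_pow] at this
      exact hq1.trans this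
    have e : 3 ^ 3 = 1 * 3 * 3 * 3 := by norm_num
    unfold XD
    rw [e]
    exact mul_dvd_mul (mul_dvd_mul (mul_dvd_mul (one_dvd _) h4) (hev 2 8 (by norm_num) h2)) (hev 2 12 (by norm_num) h2)

theorem idx_arith {q idx : ℕ} (hq : 2 ≤ q)
    (h : idx * ((1 + q) * ((1 + q) * (1 + q + q ^ 2) * 1)) * (q - 1) ^ 4 = PF q) :
    idx * ((q - 1) * ((q - 1) * (q ^ 2 - 1))) = XD q := by
  have h1 := PF_eq hq
  rw [h1] at h
  obtain ⟨x, rfl⟩ := Nat.exists_eq_add_of_le hq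
  have e1 : (2 + x) ^ 2 - 1 = (1 + x) * (3 + x) := by
    apply Nat.sub_eq_of_eq_add; ring
  have e2 : 2 + x - 1 = 1 + x := by omega
  rw [e1, e2] at h
  rw [e1, e2]
  refine Nat.eq_of_mul_eq_mul_right (show 0 < (1 + x) * (3 + x) * ((2 + x) ^ 2 + (2 + x) + 1) by positivity) ?_
  calc _ = idx * ((1 + (2 + x)) * ((1 + (2 + x)) * (1 + (2 + x) + (2 + x) ^ 2) * 1)) * (1 + x) ^ 4 := by ring
    _ = _ := by rw [h]; ring

section

variable {K : Type u} [Field K] [Fintype K] {r f : ℕ} (hr : r.Prime) (hf : f ≠ 0)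
  (hK : Fintype.card K = r ^ f) [CharP K r]

include hr hf hK in
/-- the index of `P_J`, `J = {0, 2, 3}` -/
theorem index_f1 :
    (PJ CoxeterMatrix.F₄.toCoxeterSystem hpF4.isCartan (TT chevF4 K) (XX chevF4 4 K) {j | j ≠ 1}).index *
      ((r ^ f - 1) * ((r ^ f - 1) * ((r ^ f) ^ 2 - 1))) = XD (r ^ f) ∧
    Nat.card ↥(chevF4.group K) = r ^ (f * 24) * PF (r ^ f) := by
  have h2 : 2 ≤ r ^ f := two_le hr hf
  have hfin := finite_W hpF4 CoxeterMatrix.F₄.toCoxeterSystem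
  have hfg : Finite ↥(chevF4.group K) := ExcRows.finite_group (K := K) chevF4
  have D := data_F4_1 hr hf hK
  have hJ : ({j | j ≠ 1} : Set (Fin 4)) = {j | j ∈ ([0, 2, 3] : List (Fin 4))} := by
    ext j; revert j; decide
  have hS : Nat.card ↥(chevF4.group K) = r ^ (f * 24) * PF (r ^ f) := by
    rw [Cfsg.Agent.S1062.result hK, pow_mul]
    unfold PF
    ring
  have hPF : pr (r ^ f) [2, 6, 8, 12] = PF (r ^ f) := by
    simp only [pr_cons, pr_nil]
    unfold PF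
    ring
  have hN : Nat.card ↥(PJ CoxeterMatrix.F₄.toCoxeterSystem hpF4.isCartan (TT chevF4 K) (XX chevF4 4 K) {j | j ≠ 1}) =
      FA 1 (r ^ f) * (FA 2 (r ^ f) * 1) *
        Nat.card ↥(RGD.B CoxeterMatrix.F₄.toCoxeterSystem hpF4.isCartan (TT chevF4 K) (XX chevF4 4 K)) := by
    rw [hJ]
    exact card_step D.rgd path_F4_1_0 (fun i _ => D.size i) (card_step D.rgd path_F4_1_1 (fun i _ => D.size i)
      (card_nil D.rgd))
  have h6 := index_split hpF4 K hr hf hK CoxeterMatrix.F₄.toCoxeterSystem (d := 1) (P := PF (r ^ f))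
    (not_dvd_of_dvd hr hf (one_dvd _))
    (by rw [← hK]; exact Cfsg.Agent.S1035.result rfl (chevF4, 1) (by simp))
    ⟨f * 24, by rw [one_mul, hS]⟩ (by rw [← hPF]; exact not_dvd_pr hr hf _ (by simp)) hN
  refine ⟨idx_arith h2 ?_, hS⟩
  rw [← h6]
  simp only [FA, Finset.prod_range_succ, Finset.prod_range_zero, Finset.sum_range_succ, Finset.sum_range_zero]
  ring

include hr hf hK in
/-- **`p²` divides a character degree of `F₄(q)`**, `p` odd, not dividing `q² + q + 1`. -/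
theorem sq_F4_big (hs : IsSimpleGroup ↥(chevF4.group K)) {p : ℕ} (hp : p.Prime) (hp2 : p ≠ 2)
    (h3 : ¬ p ∣ (r ^ f) ^ 2 + r ^ f + 1)
    (hd : p ^ 2 ∣ Nat.card ↥(chevF4.group K)) : H33.IM (p ^ 2) ↥(chevF4.group K) := by
  classical
  have hfg : Finite ↥(chevF4.group K) := ExcRows.finite_group (K := K) chevF4
  have h2 : 2 ≤ r ^ f := two_le hr hf
  have D := data_F4_1 hr hf hK
  have := D.fin
  by_cases hpr : p = r
  · subst hpr
    exact ExcIM.im_pow hr (by norm_num) D hd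
  have : Fintype ↥(chevF4.group K) := Fintype.ofFinite _
  obtain ⟨θ, hθ, hns, d, t1, hd1, hdt1, ht1⟩ := H622.Levi.inA2 D.rgd (k₀ := 2) (k₁ := 3) (by decide +kernel) (D.size 2)
  obtain ⟨θ', e, t2, hθ', he, het2, ht2⟩ := H622.Levi.cusp_node D.rgd 0 1 (by decide +kernel) (D.size 0)
  have hmem : ∀ i, i ∈ ({i | i ≠ 1} : Set (Fin 4)) ↔ i ≠ 1 := fun i => Iff.rfl
  have hk0J : (2 : Fin 4) ∈ ({i | i ≠ 1} : Set (Fin 4)) := by rw [compl4b]; simp
  have hk1J : (3 : Fin 4) ∈ ({i | i ≠ 1} : Set (Fin 4)) := by rw [compl4b]; simp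
  have ho : ∀ i ∈ ({2, 3} : Set (Fin 4)), ∀ i' ∈ ({0} : Set (Fin 4)), CoxeterMatrix.F₄ i i' = 2 := by
    intro i hi i' hi'
    exact or4b i (by simpa using hi) i' (by simpa using hi')
  have hC := hpF4.isCartan
  obtain ⟨χ, hχ, k, hk0', hχ1⟩ := exists_irr_one D.rgd D.gg hmem compl4b (orth_of hC ho) rfl
    (isoPair_of hC hk0J hk1J (by decide +kernel) fun c hc hc0 hc1 => by
      rw [compl4b] at hc
      rcases hc with hc | hc
      · rcases hc with rfl | rfl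
        · exact absurd rfl hc0
        · exact absurd rfl hc1
      · exact ⟨ho _ (by simp) c hc, ho _ (by simp) c hc⟩)
    (cartan_two hC (by decide +kernel)).1 (not_three_dvd hC (by decide +kernel))
    (fun a b hab => by
      obtain ⟨h1, h2, h3, h4⟩ := of_isoPair hC hab
      exact un4b a b h1 h2 h3 h4)
    hθ hns hθ'
  obtain ⟨hidx, hS⟩ := index_f1 hr hf hK
  set idx := (PJ CoxeterMatrix.F₄.toCoxeterSystem hpF4.isCartan (TT chevF4 K) (XX chevF4 4 K) {j | j ≠ 1}).index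
    with hidx'
  refine ⟨⟨χ, hχ⟩, ?_⟩
  have k1 := Cfsg.Agent.Blocks.Basic.irr_one_eq_charDegree hχ
  have hdeg : charDegree χ = idx * (k * (d * e)) := by
    have : ((charDegree χ : ℕ) : ℂ) = ((idx * (k * (d * e)) : ℕ) : ℂ) := by
      rw [← k1, hχ1, hd1, he]
      push_cast
      ring
    exact_mod_cast this
  have hmain : charDegree χ * t1 * t2 = k * XD (r ^ f) := by
    rw [hdeg, ← hidx]
    calc idx * (k * (d * e)) * t1 * t2 = idx * k * (d * t1) * (e * t2) := by ring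
      _ = _ := by rw [hdt1, het2]; ring
  have hpq : ¬ p ∣ r ^ f := by
    intro h
    exact hpr ((Nat.prime_dvd_prime_iff_eq hp hr).1 (hp.dvd_of_dvd_pow h))
  have hdPT : p ^ 2 ∣ PF (r ^ f) := by
    have h4 : p ^ 2 ∣ r ^ (f * 24) * PF (r ^ f) := by rw [← hS]; exact hd
    refine Nat.Coprime.dvd_of_dvd_mul_left ?_ h4
    exact Nat.Coprime.pow_left 2 (Nat.Coprime.pow_right _ ((Nat.coprime_primes hp hr).2 hpr))
  obtain ⟨hA, hB⟩ := XD_dvd hp h2 hpq h3 hdPT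
  have ht2' : Nat.Coprime (p ^ 2) t2 := by
    refine Nat.Coprime.pow_left 2 ((Nat.Prime.coprime_iff_not_dvd hp).2 fun h => ?_)
    have h5 := (h.trans ht2).trans (Nat.gcd_dvd_left 2 _)
    exact hp2 ((Nat.prime_dvd_prime_iff_eq hp Nat.prime_two).1 h5)
  by_cases hp3 : p = 3
  · have h5 : p ^ 3 ∣ charDegree χ * t1 * t2 := by rw [hmain]; exact Dvd.dvd.mul_left (hB hp3) _
    have h6 : charDegree χ * t1 * t2 ∣ charDegree χ * 3 * 2 :=
      mul_dvd_mul (mul_dvd_mul_left _ ht1) (ht2.trans (Nat.gcd_dvd_left 2 _))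
    have h7 := h5.trans h6
    subst hp3
    change 3 ^ 2 ∣ charDegree χ
    clear * - h7
    omega
  · have h5 : p ^ 2 ∣ charDegree χ * t1 * t2 := by rw [hmain]; exact Dvd.dvd.mul_left (hA hp3) _
    have h6 := Nat.Coprime.dvd_of_dvd_mul_right ht2' h5
    refine Nat.Coprime.dvd_of_dvd_mul_right ?_ h6
    refine Nat.Coprime.pow_left 2 ((Nat.Prime.coprime_iff_not_dvd hp).2 fun h => ?_)
    exact hp3 ((Nat.prime_dvd_prime_iff_eq hp Nat.prime_three).1 (h.trans ht1))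

end

end Cfsg.Agent.H730.Sq
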