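import Cfsg.Agent.H730.Sq.Rank
import Cfsg.Agent.H730.Sq.F4Big
import Cfsg.Agent.H531.Sq.TwE6

/-!
# The rows `F₄` and `²E₆` (helper730, S4844)

`sq_f4`, `sq_2e6` : for an odd prime `p` with `p² ∣ |S|` some character degree of `S` is divisible by `p²`.
-/

set_option autoImplicit false
set_option maxHeartbeats 1000000

namespace Cfsg.Agent.H730.Sq

open Cfsg Cfsg.Lie Cfsg.Agent.Nodes Cfsg.Agent.H53.HC Cfsg.Agent.H35.ExcIdx Cfsg.Agent.H35.PoinNum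
open Cfsg.Agent.Nodes.RGDChev Cfsg.Agent.ChevalleyStructure.CoxeterGeomTypes
open CoxeterSystem Cfsg.Agent.ChevalleyStructure.CoxeterGeom Cfsg.Agent.Tits.Roots Cfsg.Agent.Tits.Core
  Cfsg.Agent.Tits.Exchange Cfsg.Agent.Nodes.Reps Cfsg.Agent.Nodes.BNOf Cfsg.Agent.Nodes.StabComb
open Cfsg.Agent.Characters Cfsg.Agent.Nodes.LeviDec Cfsg.Agent.H730.Sq.Typ Cfsg.Agent.H730.Sq.Tab24
  Cfsg.Agent.H730.Sq.Rank

universe u

/-- the orbit, orientation of `²E₆` -/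
def DA : Tab RGDTwE6.A (Fin 24) where
  v := vA
  σ := sg
  ε := ep
  o := 0
  wd := wd
  inj := by decide +kernel
  hσ := by decide +kernel
  hε := by decide +kernel
  dom := by unfold Dom; decide +kernel
  reach := wd_eq

/-- the orbit, orientation of `F₄` -/
def DB : Tab (cartanOf chevF4 4) (Fin 24) where
  v := vB
  σ := sg
  ε := ep
  o := 0
  wd := wd
  inj := by decide +kernel
  hσ := by decide +kernel
  hε := by decide +kernel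
  dom := by unfold Dom; decide +kernel
  reach := wd_eq

theorem DA_lv : ∀ k, DA.v k 3 = lv k := by decide +kernel
theorem DB_lv : ∀ k, DB.v k 3 = lv k := by decide +kernel
theorem DA_pair : ∀ i, i ≠ 3 → pairing RGDTwE6.A i (DA.v DA.o) = 0 := by decide +kernel
theorem DB_pair : ∀ i, i ≠ 3 → pairing (cartanOf chevF4 4) i (DB.v DB.o) = 0 := by decide +kernel

/-! ### The degrees -/

theorem deg_F {q : ℂ} (hq : q ≠ 0) (h1 : 1 + q ^ 2 * q ≠ 0) (h2 : q ^ 2 + q + 1 ≠ 0) :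
    (q ^ 2 * (q ^ 2 + q + 1) ^ 2 * ((q ^ 2 - q + 1) ^ 2 * (q ^ 4 - q ^ 2 + 1))) * V2 q q = V q q := by
  obtain ⟨d1, hd1⟩ : ∃ d, d = 1 + q ^ 2 * q := ⟨_, rfl⟩
  obtain ⟨d2, hd2⟩ : ∃ d, d = q ^ 2 + q + 1 := ⟨_, rfl⟩
  unfold V2 V
  rw [ph_1, ph_0, ph_n1, ph_n2]
  rw [← hd1] at h1 ⊢
  rw [← hd2] at h2 ⊢
  field_simp
  rw [hd1, hd2]
  ring

theorem deg_T {q : ℂ} (hq : q ≠ 0) (h1 : 1 + q ^ 2 * q ^ 2 ≠ 0) (h2 : q ^ 2 + q + 1 ≠ 0) :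
    (q ^ 3 * (q ^ 2 + q + 1) ^ 2 * ((q ^ 4 + 1) * (q ^ 4 - q ^ 3 + q ^ 2 - q + 1) * (q ^ 6 - q ^ 3 + 1))) * V2 q (q ^ 2) =
      2 * V q (q ^ 2) := by
  obtain ⟨d1, hd1⟩ : ∃ d, d = 1 + q ^ 2 * q ^ 2 := ⟨_, rfl⟩
  obtain ⟨d2, hd2⟩ : ∃ d, d = q ^ 2 + q + 1 := ⟨_, rfl⟩
  unfold V2 V
  rw [ph_1, ph_0, ph_n1, ph_n2]
  rw [← hd1] at h1 ⊢
  rw [← hd2] at h2 ⊢
  field_simp
  rw [hd1, hd2]
  ring

/-! ### The case `p ∣ q² + q + 1` -/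

theorem V_ne {q Q : ℕ} : V (q : ℂ) (Q : ℂ) ≠ 0 := by
  have h : V (q : ℂ) (Q : ℂ) = ((1 + Q * (1 + Q) * (1 + q * Q) * (1 + q ^ 2 * Q) +
    q * Q ^ 4 * (1 + q + q ^ 2) * (1 + q ^ 2 * Q) +
    q ^ 3 * Q ^ 5 * (1 + Q) * (1 + q * Q) * (1 + q ^ 2 * Q) + q ^ 6 * Q ^ 9 : ℕ) : ℂ) := by
    unfold V
    push_cast
    ring
  rw [h, Nat.cast_ne_zero]
  omega

theorem dvd_of_mul {p N a b : ℕ} (hp : p.Prime) (hp2 : p ≠ 2) (h3 : p ∣ a) (h : 2 * N = b * a ^ 2) : p ^ 2 ∣ N := by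
  have h1 : p ^ 2 ∣ 2 * N := by
    rw [h]
    exact Dvd.dvd.mul_left (pow_dvd_pow_of_dvd h3 2) _
  refine Nat.Coprime.dvd_of_dvd_mul_left ?_ h1
  exact Nat.Coprime.pow_left 2 ((Nat.coprime_primes hp Nat.prime_two).2 hp2)

/-- a character of the degree of the theorem -/
theorem im_of_char {S : Type u} [Group S] {p a : ℕ} (hp : p.Prime) (hp2 : p ≠ 2) (h3 : p ∣ a) {χ : S → ℂ}
    (hχ : IsIrrCharacter S χ) {b : ℕ} (h : 2 * χ 1 = (b : ℂ) * (a : ℂ) ^ 2) : H33.IM (p ^ 2) S := by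
  refine ⟨⟨χ, hχ⟩, ?_⟩
  have k1 := Cfsg.Agent.Blocks.Basic.irr_one_eq_charDegree hχ
  rw [k1] at h
  refine dvd_of_mul hp hp2 h3 (N := charDegree χ) (b := b) ?_
  exact_mod_cast h

theorem sq_F4_phi {K : Type u} [Field K] [Fintype K] {r f : ℕ} (hr : r.Prime) (hf : f ≠ 0)
    (hK : Fintype.card K = r ^ f) [CharP K r] {p : ℕ} (hp : p.Prime) (hp2 : p ≠ 2)
    (h3 : p ∣ (r ^ f) ^ 2 + r ^ f + 1) : H33.IM (p ^ 2) ↥(chevF4.group K) := by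
  have hfg : Finite ↥(chevF4.group K) := ExcRows.finite_group (K := K) chevF4
  have h2 : 2 ≤ r ^ f := two_le hr hf
  have D := data_F4_1 hr hf hK
  have := D.fin
  obtain ⟨χ, hχ, h⟩ := exists_char D.rgd D.gg DB rfl rfl rfl DB_lv DB_pair (q := r ^ f) (Q := r ^ f) (by omega) (by omega)
    (fun i => by
      rw [D.size i]
      fin_cases i <;> rfl)
  set q := r ^ f with hq
  have c1 : (q : ℂ) ≠ 0 := by rw [Nat.cast_ne_zero]; omega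
  have c3 : (1 : ℂ) + (q : ℂ) ^ 2 * q ≠ 0 := by
    have : ((1 + q ^ 2 * q : ℕ) : ℂ) ≠ 0 := by rw [Nat.cast_ne_zero]; omega
    push_cast at this; exact this
  have c4 : (q : ℂ) ^ 2 + q + 1 ≠ 0 := by
    have : ((q ^ 2 + q + 1 : ℕ) : ℂ) ≠ 0 := by rw [Nat.cast_ne_zero]; omega
    push_cast at this; exact this
  have h5 := deg_F c1 c3 c4
  have h6 : V2 (q : ℂ) (q : ℂ) ≠ 0 := by
    intro h0
    rw [h0, mul_zero] at h
    exact V_ne h.symm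
  have h7 : χ 1 = (q : ℂ) ^ 2 * ((q : ℂ) ^ 2 + q + 1) ^ 2 * (((q : ℂ) ^ 2 - q + 1) ^ 2 * ((q : ℂ) ^ 4 - (q : ℂ) ^ 2 + 1)) :=
    mul_right_cancel₀ h6 (h.trans h5.symm)
  obtain ⟨x, hx⟩ := Nat.exists_eq_add_of_le h2
  refine im_of_char hp hp2 h3 hχ (b := 2 * q ^ 2 * ((q * (1 + x) + 1) ^ 2 * (q ^ 2 * ((1 + x) * (q + 1)) + 1))) ?_
  rw [h7]
  have hxq : (x : ℂ) = q - 2 := by
    rw [hx]; push_cast; ring
  push_cast
  rw [hxq]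
  ring

theorem sq_T_phi {K : Type u} [Field K] [Fintype K] {q : ℕ} {φ : K →+* K} {r f : ℕ} (hr : r.Prime) (hf : f ≠ 0)
    (hq : q = r ^ f) [CharP K r] (hφ : ∀ x, φ x = x ^ q) (hqq : ∀ t : K, (t ^ q) ^ q = t)
    (hK : Fintype.card K = q ^ 2) {p : ℕ} (hp : p.Prime) (hp2 : p ≠ 2)
    (h3 : p ∣ q ^ 2 + q + 1) : H33.IM (p ^ 2) ↥(twistedE6 K q) := by
  have hfg : Finite ↥(twistedE6 K q) := by
    have : Finite (GL chevE6.Idx K) := by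
      have : Finite (Matrix chevE6.Idx chevE6.Idx K) := inferInstance
      infer_instance
    infer_instance
  have h2 : 2 ≤ q := by rw [hq]; exact two_le hr hf
  have D := data_TwE6_1 hr hf hq hφ hqq hK
  have := D.fin
  obtain ⟨χ, hχ, h⟩ := exists_char D.rgd D.gg DA rfl rfl rfl DA_lv DA_pair (q := q) (Q := q ^ 2) (by omega)
    (by positivity)
    (fun i => by
      rw [D.size i]
      fin_cases i <;> simp [fE, par])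
  have c1 : (q : ℂ) ≠ 0 := by rw [Nat.cast_ne_zero]; omega
  have c3 : (1 : ℂ) + (q : ℂ) ^ 2 * (q : ℂ) ^ 2 ≠ 0 := by
    have : ((1 + q ^ 2 * q ^ 2 : ℕ) : ℂ) ≠ 0 := by rw [Nat.cast_ne_zero]; omega
    push_cast at this; exact this
  have c4 : (q : ℂ) ^ 2 + q + 1 ≠ 0 := by
    have : ((q ^ 2 + q + 1 : ℕ) : ℂ) ≠ 0 := by rw [Nat.cast_ne_zero]; omega
    push_cast at this; exact this
  have h5 := deg_T c1 c3 c4
  have h6 : V2 (q : ℂ) ((q ^ 2 : ℕ) : ℂ) ≠ 0 := by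
    intro h0
    rw [h0, mul_zero] at h
    exact V_ne h.symm
  rw [Nat.cast_pow] at h h6
  have h7 : 2 * χ 1 = (q : ℂ) ^ 3 * ((q : ℂ) ^ 2 + q + 1) ^ 2 *
      (((q : ℂ) ^ 4 + 1) * ((q : ℂ) ^ 4 - (q : ℂ) ^ 3 + (q : ℂ) ^ 2 - q + 1) * ((q : ℂ) ^ 6 - (q : ℂ) ^ 3 + 1)) := by
    apply mul_right_cancel₀ h6
    rw [h5, ← h]
    ring
  obtain ⟨x, hx⟩ := Nat.exists_eq_add_of_le h2
  refine im_of_char hp hp2 h3 hχ (b := q ^ 3 * ((q ^ 4 + 1) * ((1 + x) * q ^ 3 + (1 + x) * q + 1) *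
    (q ^ 3 * ((1 + x) * (q ^ 2 + q + 1)) + 1))) ?_
  rw [h7]
  have hxq : (x : ℂ) = q - 2 := by
    rw [hx]; push_cast; ring
  push_cast
  rw [hxq]
  ring

/-! ### The rows -/

/-- **The row `F₄`.** -/
theorem sq_f4 {S : Type u} [Group S] [Finite S] (h : Lie.IsoF4 S) (hs : IsSimpleGroup S) {p : ℕ} [hp : Fact p.Prime]
    (hp2 : p ≠ 2) (hd : p ^ 2 ∣ Nat.card S) : Cfsg.Agent.H33.IM (p ^ 2) S := by
  obtain ⟨F, _, _, ⟨e⟩⟩ := h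
  obtain ⟨r, f, hr, hf, hF, hch⟩ := ExcIM.exists_prime_pow F
  have hs' := ExcIM.simple_congr e hs
  have hd' : p ^ 2 ∣ Nat.card ↥(chevF4.group F) := by rwa [← Nat.card_congr e.toEquiv]
  refine H33.IM.of_equiv e ?_
  by_cases h3 : p ∣ (r ^ f) ^ 2 + r ^ f + 1
  · exact sq_F4_phi hr hf hF hp.out hp2 h3
  · exact sq_F4_big hr hf hF hs' hp.out hp2 h3 hd'

/-- **The row `²E₆`.** -/
theorem sq_2e6 {S : Type u} [Group S] [Finite S] (h : Lie.Iso2E6 S) (hs : IsSimpleGroup S) {p : ℕ} [hp : Fact p.Prime]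
    (hp2 : p ≠ 2) (hd : p ^ 2 ∣ Nat.card S) : Cfsg.Agent.H33.IM (p ^ 2) S := by
  refine H531.Sq.sq_2e6_of (p := p) ?_ h hs hp2 hd
  intro K _ _ q r f φ hr hf hq hch hφ hqq hK _ h3 _
  exact sq_T_phi hr hf hq hφ hqq hK hp.out hp2 h3

end Cfsg.Agent.H730.Sq
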