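import Cfsg.Agent.Characters.Core

/-!
# Spherical functions (helper730, S4844)

`exists_irr_of_spherical` : `F : G → ℂ` with `F 1 = 1`, `F g⁻¹ = conj (F g)` and `F * x * F ∈ ℂ F` in the group algebra
for all `x : G`. Then `G` has an irreducible character `χ` with `χ 1 * ∑ F g * F g⁻¹ = |G|`.
-/

set_option autoImplicit false

open scoped ComplexConjugate
open Cfsg Module

namespace Cfsg.Agent.H730.Sq.Sph

universe u

variable {G : Type u} [Group G]

/-- left translation of functions -/
def lreg (G : Type u) [Group G] : Representation ℂ G (G → ℂ) where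
  toFun x :=
    { toFun := fun f g => f (x⁻¹ * g)
      map_add' := fun _ _ => rfl
      map_smul' := fun _ _ => rfl }
  map_one' := by
    ext f g
    simp
  map_mul' x y := by
    ext f g
    simp [mul_assoc]

theorem lreg_apply (x : G) (f : G → ℂ) (g : G) : lreg G x f g = f (x⁻¹ * g) := rfl

theorem lreg_mul (x y : G) (f : G → ℂ) : lreg G (x * y) f = lreg G x (lreg G y f) := by
  rw [map_mul]; rfl

variable [Fintype G]

/-- right convolution by `F` -/
noncomputable def R (F : G → ℂ) : (G → ℂ) →ₗ[ℂ] (G → ℂ) where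
  toFun f := ∑ x, f x • lreg G x F
  map_add' f f' := by simp only [Pi.add_apply, add_smul, Finset.sum_add_distrib]
  map_smul' c f := by
    simp only [Pi.smul_apply, smul_assoc, RingHom.id_apply, Finset.smul_sum]

theorem R_def (F f : G → ℂ) : R F f = ∑ x, f x • lreg G x F := rfl

theorem R_apply (F f : G → ℂ) (g : G) : R F f g = ∑ x, f x * F (x⁻¹ * g) := by
  rw [R_def, Finset.sum_apply]
  rfl

theorem R_lreg (F f : G → ℂ) (y : G) : R F (lreg G y f) = lreg G y (R F f) := by
  rw [R_def, R_def, map_sum]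
  refine Fintype.sum_equiv (Equiv.mulLeft y⁻¹) _ _ fun x => ?_
  rw [map_smul, Equiv.coe_mulLeft, ← lreg_mul, mul_inv_cancel_left, lreg_apply]

theorem trace_R (F : G → ℂ) : LinearMap.trace ℂ _ (R F) = Nat.card G * F 1 := by
  classical
  rw [LinearMap.trace_eq_matrix_trace ℂ (Pi.basisFun ℂ G), Matrix.trace]
  have h1 : ∀ g : G, Matrix.diag (LinearMap.toMatrix (Pi.basisFun ℂ G) (Pi.basisFun ℂ G) (R F)) g = F 1 := by
    intro g
    rw [Matrix.diag_apply, LinearMap.toMatrix_apply, Pi.basisFun_apply, Pi.basisFun_repr, R_apply,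
      Finset.sum_eq_single g]
    · rw [Pi.single_eq_same, one_mul, inv_mul_cancel]
    · intro x _ hx
      rw [Pi.single_eq_of_ne hx, zero_mul]
    · intro h; exact absurd (Finset.mem_univ g) h
  rw [Finset.sum_congr rfl fun g _ => h1 g, Finset.sum_const, nsmul_eq_mul, Finset.card_univ, Nat.card_eq_fintype_card]

/-- the subrepresentation of functions `f * F` -/
noncomputable def U (F : G → ℂ) : Subrepresentation (lreg G) where
  toSubmodule := LinearMap.range (R F)
  apply_mem_toSubmodule g v hv := by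
    obtain ⟨w, rfl⟩ := hv
    exact ⟨lreg G g w, R_lreg F w g⟩

theorem exists_irr_of_spherical (F : G → ℂ) (h1 : F 1 = 1) (hinv : ∀ g, F g⁻¹ = conj (F g))
    (hs : ∀ x, ∃ c : ℂ, ∀ g, ∑ y, F y * F (x⁻¹ * (y⁻¹ * g)) = c * F g) :
    ∃ χ, IsIrrCharacter G χ ∧ χ 1 * ∑ g, F g * F g⁻¹ = Nat.card G := by
  classical
  choose c hc using hs
  -- the form of the hypothesis
  have hc' : ∀ x, ∑ y, F y • lreg G y (lreg G x F) = c x • F := by
    intro x
    funext g
    rw [Finset.sum_apply]
    exact hc x g
  set c1 : ℂ := ∑ g, F g * F g⁻¹ with hc1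
  have e1 : c 1 = c1 := by
    have := hc 1 1
    rw [h1, mul_one] at this
    rw [← this]
    refine Finset.sum_congr rfl fun y _ => ?_
    rw [inv_one, one_mul, mul_one]
  have hne : c1 ≠ 0 := by
    intro h0
    have e2 : ∀ g, F g * F g⁻¹ = ((Complex.normSq (F g) : ℝ) : ℂ) := fun g => by
      rw [hinv, Complex.mul_conj]
    rw [hc1, Finset.sum_congr rfl fun g _ => e2 g, ← Complex.ofReal_sum, Complex.ofReal_eq_zero,
      Finset.sum_eq_zero_iff_of_nonneg fun g _ => Complex.normSq_nonneg _] at h0
    have e3 := h0 1 (Finset.mem_univ _)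
    rw [h1, Complex.normSq_one] at e3
    exact one_ne_zero e3
  have hRF : R F F = c1 • F := by
    rw [R_def, ← e1, ← hc' 1]
    refine Finset.sum_congr rfl fun y _ => ?_
    rw [map_one]; rfl
  have hRR : ∀ f, R F (R F f) = c1 • R F f := by
    intro f
    conv_lhs => rw [R_def F f, map_sum]
    rw [R_def F f, Finset.smul_sum]
    refine Finset.sum_congr rfl fun x _ => ?_
    rw [map_smul, R_lreg, hRF, map_smul, smul_comm]
  -- the projection
  have hproj : LinearMap.IsProj (LinearMap.range (R F)) (c1⁻¹ • R F) := by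
    refine ⟨fun f => ?_, fun f hf => ?_⟩
    · exact Submodule.smul_mem _ _ ⟨f, rfl⟩
    · obtain ⟨f, rfl⟩ := hf
      rw [LinearMap.smul_apply, hRR, smul_smul, inv_mul_cancel₀ hne, one_smul]
  have htr := hproj.trace
  rw [map_smul, trace_R, h1, mul_one, smul_eq_mul] at htr
  -- membership of `F`
  have hFU : F ∈ LinearMap.range (R F) := ⟨c1⁻¹ • F, by
    rw [map_smul, hRF, smul_smul, inv_mul_cancel₀ hne, one_smul]⟩
  have hF0 : F ≠ 0 := by
    intro h0
    rw [h0] at h1
    exact zero_ne_one h1
  have hirr : (U F).toRepresentation.IsIrreducible := by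
    have hnt : Nontrivial (U F).toSubmodule := ⟨⟨⟨F, hFU⟩, 0, fun h => hF0 (congrArg Subtype.val h)⟩⟩
    have : Nontrivial (Subrepresentation (U F).toRepresentation) := by
      refine ⟨⊥, ⊤, fun h => ?_⟩
      have : (⊥ : Submodule ℂ (U F).toSubmodule) = ⊤ := congrArg Subrepresentation.toSubmodule h
      exact bot_ne_top this
    refine ⟨fun U₁ => ?_⟩
    by_cases hU : U₁.toSubmodule = ⊥
    · left
      exact Subrepresentation.toSubmodule_injective hU
    right
    obtain ⟨⟨f, hf⟩, hf1, hf0⟩ := (Submodule.ne_bot_iff _).1 hU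
    have hf0' : f ≠ 0 := fun h => hf0 (Subtype.ext h)
    obtain ⟨a, ha⟩ := hf
    -- `F * y * f` is a multiple of `F`
    have hd : ∀ y, ∑ z, F z • lreg G z (lreg G y f) = (∑ x, a x * c (y * x)) • F := by
      intro y
      have e2 : lreg G y f = ∑ x, a x • lreg G (y * x) F := by
        rw [← ha, R_def, map_sum]
        refine Finset.sum_congr rfl fun x _ => ?_
        rw [map_smul, lreg_mul]
      simp only [e2, map_sum, map_smul, Finset.smul_sum]
      rw [Finset.sum_comm, Finset.sum_smul]
      refine Finset.sum_congr rfl fun x _ => ?_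
      rw [mul_smul, ← hc' (y * x), Finset.smul_sum]
      refine Finset.sum_congr rfl fun z _ => ?_
      rw [smul_comm]
    -- membership in `U₁`
    have hmem : ∀ y, ∃ w ∈ U₁.toSubmodule, (w : G → ℂ) = ∑ z, F z • lreg G z (lreg G y f) := by
      intro y
      refine ⟨∑ z, F z • (U F).toRepresentation z ((U F).toRepresentation y ⟨f, ⟨a, ha⟩⟩), ?_, ?_⟩
      · refine Submodule.sum_mem _ fun z _ => Submodule.smul_mem _ _ ?_
        exact U₁.apply_mem_toSubmodule z (U₁.apply_mem_toSubmodule y hf1)
      · rw [Submodule.coe_sum]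
        rfl
    by_cases hall : ∀ y, (∑ x, a x * c (y * x)) = 0
    · exfalso
      apply hf0'
      have e3 : ∀ y, ∑ z, conj (F (y * z)) * f z = 0 := by
        intro y
        have e4 := congrFun (hd y) 1
        rw [hall y, zero_smul, Finset.sum_apply] at e4
        have e5 : (0 : G → ℂ) 1 = 0 := rfl
        rw [e5] at e4
        rw [← e4]
        refine Fintype.sum_equiv ((Equiv.mulLeft y).trans (Equiv.inv G)) _ _ fun z => ?_
        rw [Equiv.trans_apply, Equiv.coe_mulLeft, Equiv.inv_apply, Pi.smul_apply, lreg_apply, lreg_apply, mul_one, inv_inv,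
          inv_mul_cancel_left, smul_eq_mul, hinv]
      have e6 : ∑ z, conj (f z) * f z = 0 := by
        have e7 : ∀ z, conj (f z) = ∑ x, conj (a x) * conj (F (x⁻¹ * z)) := by
          intro z
          rw [← ha, R_apply, map_sum]
          simp only [map_mul]
        simp only [e7, Finset.sum_mul]
        rw [Finset.sum_comm]
        refine Finset.sum_eq_zero fun x _ => ?_
        simp only [mul_assoc]
        rw [← Finset.mul_sum, e3, mul_zero]
      have e8 : ∀ z, conj (f z) * f z = ((Complex.normSq (f z) : ℝ) : ℂ) := fun z => by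
        rw [mul_comm, Complex.mul_conj]
      rw [Finset.sum_congr rfl fun z _ => e8 z, ← Complex.ofReal_sum, Complex.ofReal_eq_zero,
        Finset.sum_eq_zero_iff_of_nonneg fun g _ => Complex.normSq_nonneg _] at e6
      funext z
      exact Complex.normSq_eq_zero.1 (e6 z (Finset.mem_univ _))
    · push Not at hall
      obtain ⟨y, hy⟩ := hall
      obtain ⟨w, hw, hwe⟩ := hmem y
      have hF1 : (⟨F, hFU⟩ : (U F).toSubmodule) ∈ U₁.toSubmodule := by
        have e9 : (⟨F, hFU⟩ : (U F).toSubmodule) = (∑ x, a x * c (y * x))⁻¹ • w := by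
          apply Subtype.ext
          rw [Submodule.coe_smul, hwe, hd, smul_smul, inv_mul_cancel₀ hy, one_smul]
        rw [e9]
        exact Submodule.smul_mem _ _ hw
      apply Subrepresentation.toSubmodule_injective
      refine eq_top_iff.2 fun v _ => ?_
      obtain ⟨v, b, hb⟩ := v
      have e10 : (⟨v, ⟨b, hb⟩⟩ : (U F).toSubmodule) = ∑ x, b x • (U F).toRepresentation x ⟨F, hFU⟩ := by
        apply Subtype.ext
        rw [Submodule.coe_sum]
        exact hb.symm
      rw [e10]
      exact Submodule.sum_mem _ fun x _ => Submodule.smul_mem _ _ (U₁.apply_mem_toSubmodule x hF1)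
  refine ⟨_, Characters.Core.isIrrCharacter_of_rep _ hirr, ?_⟩
  rw [Representation.char_one]
  have e11 : (finrank ℂ (U F).toSubmodule : ℂ) = c1⁻¹ * Nat.card G := htr.symm
  rw [e11, mul_comm, ← mul_assoc, mul_inv_cancel₀ hne, one_mul]

end Cfsg.Agent.H730.Sq.Sph
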