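import Cfsg.Agent.H730.Sq.Typ
import Cfsg.Agent.H730.Sq.Sph

/-!
# Hecke operators and the spherical characters of a parabolic subgroup (helper730, S4844)

`exists_irr_rank` : an eigenfunction of an operator `A = ∑ T_ω` on the `P_J`-biinvariant functions with a simple
eigenvalue gives an irreducible character of known degree.
-/

set_option autoImplicit false
set_option linter.unusedSectionVars false

open scoped ComplexConjugate
open Cfsg

namespace Cfsg.Agent.H730.Sq.Op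

open CoxeterSystem Cfsg.Agent.ChevalleyStructure.CoxeterGeom Cfsg.Agent.Tits.Roots Cfsg.Agent.Tits.Core
  Cfsg.Agent.Tits.Exchange Cfsg.Agent.Nodes.Reps Cfsg.Agent.Nodes.BNOf Cfsg.Agent.Nodes.StabComb
  Cfsg.Agent.Nodes.Bruhat Cfsg.Agent.Nodes.LeviDec Cfsg.Agent.H730.Sq.Typ Cfsg.Agent.H730.Sq.Sph

universe u

variable {I W : Type*} {Y : Type u} [Fintype I] [DecidableEq I] [Group W] [Group Y] {M : CoxeterMatrix I}
  {cs : CoxeterSystem M W} {A : I → I → ℤ} {h : IsCartan M A} {p : ℕ} {T : Subgroup Y} {n : I → Y}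
  {X : (I → ℤ) → Subgroup Y} {Ω : Type}

/-! ### the operators on functions on the orbit -/

/-- the operator `T_i` on functions on the orbit -/
noncomputable def tau (σ : I → Ω → Ω) (ε : I → Ω → ℤ) (q : I → ℂ) (i : I) (Φ : Ω → ℂ) (k : Ω) : ℂ :=
  if ε i k = 1 then q i * Φ (σ i k) else if ε i k = 0 then q i * Φ k else Φ (σ i k) + (q i - 1) * Φ k

/-- the operator of a word -/
noncomputable def tauW (σ : I → Ω → Ω) (ε : I → Ω → ℤ) (q : I → ℂ) (ω : List I) (Φ : Ω → ℂ) : Ω → ℂ :=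
  ω.foldr (fun i Ψ => tau σ ε q i Ψ) Φ

theorem tauW_cons (σ : I → Ω → Ω) (ε : I → Ω → ℤ) (q : I → ℂ) (i : I) (ω : List I) (Φ : Ω → ℂ) :
    tauW σ ε q (i :: ω) Φ = tau σ ε q i (tauW σ ε q ω Φ) := rfl

theorem tauW_nil (σ : I → Ω → Ω) (ε : I → Ω → ℤ) (q : I → ℂ) (Φ : Ω → ℂ) :
    tauW σ ε q [] Φ = Φ := rfl

/-- the operator of a list of words -/
noncomputable def tauL (σ : I → Ω → Ω) (ε : I → Ω → ℤ) (q : I → ℂ) (L : List (List I)) (Φ : Ω → ℂ) (k : Ω) : ℂ :=
  (L.map fun ω => tauW σ ε q ω Φ k).sum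

/-! ### the operators on functions on the group -/

section group

variable [Finite Y]

variable (X) in
/-- the elements of the root group -/
noncomputable def XS (i : I) : Finset Y := (Set.toFinite (X (sr i) : Set Y)).toFinset

theorem mem_XS {i : I} {u : Y} : u ∈ XS X i ↔ u ∈ X (sr i) := by
  unfold XS
  rw [Set.Finite.mem_toFinset]
  rfl

theorem card_XS (i : I) : (XS X i).card = Nat.card (X (sr i)) := by
  unfold XS
  rw [← Nat.card_eq_card_finite_toFinset]
  rfl

variable (X n) in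
/-- `(T_i f)(g) = ∑_{u ∈ X_i} f (g u n_i)` -/
noncomputable def Top (i : I) : (Y → ℂ) →ₗ[ℂ] (Y → ℂ) where
  toFun f g := ∑ u ∈ XS X i, f (g * u * n i)
  map_add' f f' := by
    funext g
    simp only [Pi.add_apply, Finset.sum_add_distrib]
  map_smul' c f := by
    funext g
    simp only [Pi.smul_apply, smul_eq_mul, RingHom.id_apply, Finset.mul_sum]

theorem Top_apply (i : I) (f : Y → ℂ) (g : Y) : Top n X i f g = ∑ u ∈ XS X i, f (g * u * n i) := rfl

variable (X n) in
/-- the operator of a word -/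
noncomputable def TW : List I → (Y → ℂ) →ₗ[ℂ] (Y → ℂ)
  | [] => LinearMap.id
  | i :: ω => Top n X i ∘ₗ TW ω

variable (X n) in
/-- the operator of a list of words -/
noncomputable def TL : List (List I) → (Y → ℂ) →ₗ[ℂ] (Y → ℂ)
  | [] => 0
  | ω :: L => TW n X ω + TL L

theorem Top_lreg (i : I) (x : Y) (f : Y → ℂ) : Top n X i (lreg Y x f) = lreg Y x (Top n X i f) := by
  funext g
  rw [lreg_apply, Top_apply, Top_apply]
  simp only [lreg_apply, mul_assoc]

theorem TW_lreg (ω : List I) (x : Y) (f : Y → ℂ) : TW n X ω (lreg Y x f) = lreg Y x (TW n X ω f) := by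
  induction ω with
  | nil => rfl
  | cons i ω ih =>
    show Top n X i (TW n X ω (lreg Y x f)) = lreg Y x (Top n X i (TW n X ω f))
    rw [ih, Top_lreg]

theorem TL_lreg (L : List (List I)) (x : Y) (f : Y → ℂ) : TL n X L (lreg Y x f) = lreg Y x (TL n X L f) := by
  induction L with
  | nil =>
    show (0 : (Y → ℂ) →ₗ[ℂ] (Y → ℂ)) _ = lreg Y x ((0 : (Y → ℂ) →ₗ[ℂ] (Y → ℂ)) f)
    rw [LinearMap.zero_apply, LinearMap.zero_apply, map_zero]
  | cons ω L ih =>
    show TW n X ω (lreg Y x f) + TL n X L (lreg Y x f) = lreg Y x (TW n X ω f + TL n X L f)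
    rw [ih, TW_lreg, map_add]

/-- the sum of the values -/
theorem sum_Top [Fintype Y] (i : I) (f : Y → ℂ) : ∑ g, Top n X i f g = (XS X i).card * ∑ g, f g := by
  simp only [Top_apply]
  rw [Finset.sum_comm, Finset.sum_congr rfl (g := fun _ => ∑ g, f g) fun u _ => ?_, Finset.sum_const, nsmul_eq_mul]
  exact Fintype.sum_equiv (Equiv.mulRight (u * n i)) _ _ fun g => by rw [Equiv.coe_mulRight, mul_assoc]

theorem sum_TW [Fintype Y] (ω : List I) (f : Y → ℂ) :
    ∑ g, TW n X ω f g = (ω.map fun i => ((XS X i).card : ℂ)).prod * ∑ g, f g := by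
  induction ω with
  | nil =>
    rw [List.map_nil, List.prod_nil, one_mul]; rfl
  | cons i ω ih =>
    show ∑ g, Top n X i (TW n X ω f) g = _
    rw [sum_Top, ih, List.map_cons, List.prod_cons, mul_assoc]

theorem sum_TL [Fintype Y] (L : List (List I)) (f : Y → ℂ) :
    ∑ g, TL n X L f g = (L.map fun ω => (ω.map fun i => ((XS X i).card : ℂ)).prod).sum * ∑ g, f g := by
  induction L with
  | nil =>
    rw [List.map_nil, List.sum_nil, zero_mul]
    exact Finset.sum_eq_zero fun _ _ => rfl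
  | cons ω L ih =>
    show ∑ g, (TW n X ω f g + TL n X L f g) = _
    rw [Finset.sum_add_distrib, sum_TW, ih, List.map_cons, List.sum_cons, add_mul]

end group

section main

variable [Finite W] [Finite Y] (R : RGD cs h p T n X) (hG : GG cs h T X = ⊤) {D : Tab A Ω} {κ : Y → Ω}
  (hκ : IsKap R.nsys cs h X D κ) {q : I → ℂ} (hq : ∀ i, (Nat.card (X (sr i)) : ℂ) = q i)

include hG hκ hq

theorem Top_kap (i : I) (Φ : Ω → ℂ) : Top n X i (fun g => Φ (κ g)) = fun g => tau D.σ D.ε q i Φ (κ g) := by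
  classical
  funext g
  rw [Top_apply]
  rcases kap_step D R hG hκ i g with ⟨h1, h2⟩ | ⟨h1, h2⟩ | ⟨h1, u₀, hu₀, h2, h3⟩
  · rw [tau, if_pos h1, Finset.sum_congr rfl (g := fun _ => Φ (D.σ i (κ g))) fun u hu => by rw [h2 u (mem_XS.1 hu)],
      Finset.sum_const, card_XS, nsmul_eq_mul, hq]
  · rw [tau, if_neg (by rw [h1]; norm_num), if_pos h1,
      Finset.sum_congr rfl (g := fun _ => Φ (κ g)) fun u hu => by rw [h2 u (mem_XS.1 hu)],
      Finset.sum_const, card_XS, nsmul_eq_mul, hq]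
  · rw [tau, if_neg (by rw [h1]; norm_num), if_neg (by rw [h1]; norm_num),
      ← Finset.add_sum_erase _ _ (mem_XS.2 hu₀), h2]
    rw [Finset.sum_congr rfl (g := fun _ => Φ (κ g)) fun u hu => by
      rw [h3 u (mem_XS.1 (Finset.mem_of_mem_erase hu)) (Finset.ne_of_mem_erase hu)], Finset.sum_const,
      Finset.card_erase_of_mem (mem_XS.2 hu₀), card_XS, nsmul_eq_mul, Nat.cast_sub Nat.card_pos, hq, Nat.cast_one]

theorem TW_kap (ω : List I) (Φ : Ω → ℂ) : TW n X ω (fun g => Φ (κ g)) = fun g => tauW D.σ D.ε q ω Φ (κ g) := by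
  induction ω with
  | nil => rfl
  | cons i ω ih =>
    show Top n X i (TW n X ω _) = _
    rw [ih, Top_kap R hG hκ hq i]
    rfl

theorem TL_kap (L : List (List I)) (Φ : Ω → ℂ) :
    TL n X L (fun g => Φ (κ g)) = fun g => tauL D.σ D.ε q L Φ (κ g) := by
  induction L with
  | nil => rfl
  | cons ω L ih =>
    show TW n X ω _ + TL n X L _ = _
    rw [ih, TW_kap R hG hκ hq]
    rfl

/-- **An eigenfunction with a simple eigenvalue gives an irreducible character.** -/
theorem exists_irr_rank [Fintype Y] {i₀ : I} (hi₀ : ∀ i, i ≠ i₀ → pairing A i (D.v D.o) = 0) (hne : D.v D.o ≠ 0)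
    (rp : ℤ → Ω) (cw : Ω → List I) (hcw : ∀ k, ∀ i ∈ cw k, i ≠ i₀)
    (hrp : ∀ k, (cw k).foldr D.σ k = rp (D.v k i₀)) (L : List (List I)) (row : (ℤ → ℂ) → ℤ → ℂ)
    (hrow : ∀ x k, tauL D.σ D.ε q L (fun k => x (D.v k i₀)) k = row x (D.v k i₀))
    (φ : ℤ → ℂ) (θ : ℂ) (h1 : φ (D.v D.o i₀) = 1) (hreal : ∀ l, conj (φ l) = φ l)
    (heig : ∀ k, row φ (D.v k i₀) = θ * φ (D.v k i₀))
    (huniq : ∀ x : ℤ → ℂ, (∀ k, row x (D.v k i₀) = θ * x (D.v k i₀)) →
      ∀ k, x (D.v k i₀) = x (D.v D.o i₀) * φ (D.v k i₀)) :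
    ∃ χ, IsIrrCharacter Y χ ∧ χ 1 * ∑ g, φ (D.v (κ g) i₀) ^ 2 = Nat.card Y := by
  have := Fintype.ofFinite W
  set F : Y → ℂ := fun g => φ (D.v (κ g) i₀) with hF
  have hJ : ∀ i, i ≠ i₀ → i ∈ orth cs h (D.v D.o) := fun i hi => mem_orth.2 (hi₀ i hi)
  -- the level
  have hσ0 : ∀ i k, i ≠ i₀ → D.v (D.σ i k) i₀ = D.v k i₀ := by
    intro i k hi
    rw [← D.hσ, refl_apply, Pi.sub_apply, Pi.single_apply, if_neg (Ne.symm hi), sub_zero]
  have hlev_n : ∀ g i, i ≠ i₀ → D.v (κ (g * n i)) i₀ = D.v (κ g) i₀ := by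
    intro g i hi
    have h2 := kap_step D R hG hκ i g
    have e : g * n i = g * 1 * n i := by rw [mul_one]
    rcases h2 with ⟨-, h3⟩ | ⟨-, h3⟩ | ⟨-, u₀, hu₀, h3, h4⟩
    · rw [e, h3 1 (one_mem _), hσ0 i _ hi]
    · rw [e, h3 1 (one_mem _)]
    · by_cases h5 : 1 = u₀
      · subst h5
        rw [e, h3, hσ0 i _ hi]
      · rw [e, h4 1 (one_mem _) h5]
  have hFl : ∀ a ∈ PJ cs h T X (orth cs h (D.v D.o)), ∀ g, F (a * g) = F g := by
    intro a ha g
    simp only [hF, kap_mul_left D R hG hκ ha]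
  have hFr : ∀ b ∈ RGD.B cs h T X, ∀ g, F (g * b) = F g := by
    intro b hb g
    simp only [hF, kap_mul_right D R hG hκ hb]
  have hFn : ∀ i, i ≠ i₀ → ∀ g, F (g * n i) = F g := by
    intro i hi g
    simp only [hF, hlev_n g i hi]
  have hTF : TL n X L F = θ • F := by
    have h2 := TL_kap R hG hκ hq L (fun k => φ (D.v k i₀))
    rw [show F = fun g => (fun k => φ (D.v k i₀)) (κ g) from rfl, h2]
    funext g
    rw [hrow, heig]
    rfl
  -- symmetry
  have hsym : ∀ g, F g⁻¹ = F g := by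
    intro g
    obtain ⟨w, hw⟩ := exists_cell R hG g
    have hz : ∀ j, j ≠ i₀ → form cs h (sr j) (D.v D.o) = 0 := by
      intro j hj
      have h2 := two_form cs h j (D.v D.o)
      rw [hi₀ j hj, zero_mul, form_comm] at h2
      omega
    have hf : ∀ x : I → ℤ, form cs h x (D.v D.o) = x i₀ * form cs h (sr i₀) (D.v D.o) := by
      intro x
      have h2 : ∀ s : Finset I, form cs h (∑ j ∈ s, x j • sr j) (D.v D.o) =
          ∑ j ∈ s, x j * form cs h (sr j) (D.v D.o) := by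
        classical
        intro s
        induction s using Finset.induction_on with
        | empty =>
          rw [Finset.sum_empty, Finset.sum_empty, form_comm, form_zero_right]
        | insert a s ha ih => rw [Finset.sum_insert ha, Finset.sum_insert ha, form_add_left, form_smul_left, ih]
      have h3 : x = ∑ j, x j • sr j := by
        funext j
        simp [Finset.sum_apply, sr, Pi.single_apply]
      conv_lhs => rw [h3]
      rw [h2, Finset.sum_eq_single i₀]
      · intro j _ hj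
        rw [hz j hj, mul_zero]
      · intro h4; exact absurd (Finset.mem_univ i₀) h4
    have hc : form cs h (sr i₀) (D.v D.o) ≠ 0 := by
      intro h2
      have h3 := form_pos cs h hne
      rw [hf, h2, mul_zero] at h3
      exact lt_irrefl _ h3
    have h2 : D.v (κ g) i₀ = D.v (κ g⁻¹) i₀ := by
      apply mul_right_cancel₀ hc
      rw [← hf, ← hf, hκ w g hw, hκ _ _ hw.inv, form_rep_left, inv_inv, form_comm]
    simp only [hF, h2]
  have hinv : ∀ g, F g⁻¹ = conj (F g) := by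
    intro g
    rw [hsym]
    simp only [hF, hreal]
  -- the main property
  have hs : ∀ x, ∃ c : ℂ, ∀ g, ∑ y, F y * F (x⁻¹ * (y⁻¹ * g)) = c * F g := by
    intro x
    set f : Y → ℂ := ∑ y, F y • lreg Y y (lreg Y x F) with hf
    have hfg : ∀ g, f g = ∑ y, F y * F (x⁻¹ * (y⁻¹ * g)) := by
      intro g
      rw [hf, Finset.sum_apply]
      rfl
    have hfl : ∀ a ∈ PJ cs h T X (orth cs h (D.v D.o)), ∀ g, f (a * g) = f g := by
      intro a ha g
      rw [hfg, hfg]
      refine Fintype.sum_equiv (Equiv.mulLeft a⁻¹) _ _ fun y => ?_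
      rw [Equiv.coe_mulLeft, hFl _ (inv_mem ha), mul_inv_rev, inv_inv, mul_assoc y⁻¹]
    have hfr : ∀ b ∈ RGD.B cs h T X, ∀ g, f (g * b) = f g := by
      intro b hb g
      rw [hfg, hfg]
      refine Finset.sum_congr rfl fun y _ => ?_
      rw [show x⁻¹ * (y⁻¹ * (g * b)) = x⁻¹ * (y⁻¹ * g) * b by group, hFr b hb]
    have hfn : ∀ i, i ≠ i₀ → ∀ g, f (g * n i) = f g := by
      intro i hi g
      rw [hfg, hfg]
      refine Finset.sum_congr rfl fun y _ => ?_
      rw [show x⁻¹ * (y⁻¹ * (g * n i)) = x⁻¹ * (y⁻¹ * g) * n i by group, hFn i hi]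
    have hTf : TL n X L f = θ • f := by
      rw [hf, map_sum, Finset.smul_sum]
      refine Finset.sum_congr rfl fun y _ => ?_
      rw [map_smul, TL_lreg, TL_lreg, hTF, map_smul, map_smul, smul_comm]
    choose gk hgk using fun k => exists_kap_eq D R hκ k
    choose gk' hgk' using hgk
    set Φ : Ω → ℂ := fun k => f (gk' k) with hΦ
    have hfΦ : ∀ g, f g = Φ (κ g) := by
      intro g
      obtain ⟨a, ha, b, hb, e⟩ := exists_of_kap_eq D R hG hκ (g := g) (g' := gk' (κ g)) (hgk' (κ g)).2.symm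
      rw [hΦ]
      show f g = f (gk' (κ g))
      rw [e, hfr b hb, hfl a ha]
    have hΦσ : ∀ i, i ≠ i₀ → ∀ k, Φ (D.σ i k) = Φ k := by
      intro i hi k
      have h2 : κ (gk' k * n i) = D.σ i k := by
        apply D.inj
        have h3 := hκ _ _ (cell_of_rp ((hgk' k).1.mul (rp_simple cs R.nsys i)))
        have h4 := hκ _ _ (cell_of_rp (hgk' k).1)
        rw [h3, mul_inv_rev, inv_simple, rep_mul_apply, ← h4, (hgk' k).2, rep_simple, D.hσ]
      rw [← h2, ← hfΦ, hfn i hi, hfΦ, (hgk' k).2]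
    have hΦl : ∀ (l : List I) (k : Ω), (∀ i ∈ l, i ≠ i₀) → Φ (l.foldr D.σ k) = Φ k := by
      intro l k
      induction l with
      | nil => intro _; rfl
      | cons i l ih =>
        intro h2
        rw [List.foldr_cons, hΦσ i (h2 i (by simp)), ih fun j hj => h2 j (by simp [hj])]
    set x' : ℤ → ℂ := fun l => Φ (rp l) with hx'
    have hΦx : ∀ k, Φ k = x' (D.v k i₀) := by
      intro k
      rw [hx']
      show Φ k = Φ (rp (D.v k i₀))
      rw [← hrp k, hΦl _ _ (hcw k)]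
    have hΦ' : Φ = fun k => x' (D.v k i₀) := funext hΦx
    have hall : ∀ k, row x' (D.v k i₀) = θ * x' (D.v k i₀) := by
      intro k
      have h2 := TL_kap R hG hκ hq L Φ
      rw [show (fun g => Φ (κ g)) = f from (funext hfΦ).symm, hTf] at h2
      have h3 := congrFun h2 (gk' k)
      rw [Pi.smul_apply, smul_eq_mul, hfΦ, (hgk' k).2] at h3
      rw [← hrow, ← hΦ', ← h3, hΦx]
    have h2 := huniq x' hall
    refine ⟨x' (D.v D.o i₀), fun g => ?_⟩
    rw [← hfg, hfΦ, hΦx, h2 (κ g)]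
  obtain ⟨χ, hχ, hd⟩ := exists_irr_of_spherical F (by
    show φ (D.v (κ 1) i₀) = 1
    rw [(kap_eq_o D R hG hκ).2 (one_mem _), h1]) hinv hs
  refine ⟨χ, hχ, ?_⟩
  rw [← hd]
  congr 1
  refine Finset.sum_congr rfl fun g _ => ?_
  rw [hsym, sq]

/-- **The sizes of the double cosets.** -/
theorem exists_sizes [Fintype Y] {i₀ : I} (L : List (List I)) (row : (ℤ → ℂ) → ℤ → ℂ)
    (hrow : ∀ x k, tauL D.σ D.ε q L (fun k => x (D.v k i₀)) k = row x (D.v k i₀)) (Lv : Finset ℤ)
    (hLv : ∀ k, D.v k i₀ ∈ Lv) :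
    ∃ K : ℤ → ℂ, K (D.v D.o i₀) ≠ 0 ∧ (∀ x : ℤ → ℂ, ∑ g, x (D.v (κ g) i₀) = ∑ l ∈ Lv, K l * x l) ∧
      ∀ x : ℤ → ℂ, (L.map fun ω => (ω.map q).prod).sum * ∑ l ∈ Lv, K l * x l = ∑ l ∈ Lv, K l * row x l := by
  classical
  set K : ℤ → ℂ := fun l => ((Finset.univ.filter fun g : Y => D.v (κ g) i₀ = l).card : ℂ) with hK
  have h1 : ∀ x : ℤ → ℂ, ∑ g, x (D.v (κ g) i₀) = ∑ l ∈ Lv, K l * x l := by
    intro x
    rw [← Finset.sum_fiberwise_of_maps_to (g := fun g => D.v (κ g) i₀) (t := Lv) fun g _ => hLv (κ g)]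
    refine Finset.sum_congr rfl fun l _ => ?_
    rw [Finset.sum_congr rfl (g := fun _ => x l) fun g hg => by rw [(Finset.mem_filter.1 hg).2], Finset.sum_const,
      nsmul_eq_mul]
  refine ⟨K, ?_, h1, fun x => ?_⟩
  · rw [hK]
    show ((_ : ℕ) : ℂ) ≠ 0
    rw [Nat.cast_ne_zero]
    refine Finset.card_ne_zero_of_mem (a := 1) ?_
    rw [Finset.mem_filter]
    exact ⟨Finset.mem_univ _, by rw [(kap_eq_o D R hG hκ).2 (one_mem _)]⟩
  · have h3 : TL n X L (fun g => x (D.v (κ g) i₀)) = fun g => row x (D.v (κ g) i₀) := by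
      have h4 := TL_kap R hG hκ hq L (fun k => x (D.v k i₀))
      simp only [hrow] at h4
      exact h4
    have h2 := sum_TL (n := n) (X := X) L (fun g => x (D.v (κ g) i₀))
    rw [h3] at h2
    have h5 : (fun i => ((XS X i).card : ℂ)) = q := funext fun i => by rw [card_XS, hq]
    simp only [h5] at h2
    rw [← h1, ← h1 (row x), h2]

end main

end Cfsg.Agent.H730.Sq.Op
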