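import Cfsg.Agent.H730.Sq.Tab24

/-!
# The rank 5 character of the groups with relative type `F₄` (helper730, S4844)

`exists_char` : a group with a root group datum of type `F₄` with root groups of orders `q, q, Q, Q` has an irreducible
character `χ` with `χ 1 * ∑ k_l φ_l² = ∑ k_l`.
-/

set_option autoImplicit false
set_option maxHeartbeats 1000000

open scoped ComplexConjugate
open Cfsg

namespace Cfsg.Agent.H730.Sq.Rank

open CoxeterSystem Cfsg.Agent.ChevalleyStructure.CoxeterGeom Cfsg.Agent.Tits.Roots Cfsg.Agent.Tits.Core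
  Cfsg.Agent.Tits.Exchange Cfsg.Agent.Nodes.Reps Cfsg.Agent.Nodes.BNOf Cfsg.Agent.Nodes.StabComb
  Cfsg.Agent.Nodes.Bruhat Cfsg.Agent.Nodes.LeviDec Cfsg.Agent.H730.Sq.Typ Cfsg.Agent.H730.Sq.Sph
  Cfsg.Agent.H730.Sq.Op Cfsg.Agent.H730.Sq.Tab24

section alg

variable (q Q : ℂ)

/-- the rows of the collinearity operator -/
noncomputable def row (x : ℤ → ℂ) (l : ℤ) : ℂ :=
  if l = 2 then (Q + Q^2 + q*Q^2 + q*Q^3 + q^2*Q^2 + q^2*Q^3 + q^3*Q^3 + q^3*Q^4) * x 1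
  else if l = 1 then x 2 + (-1 + Q + Q^2 + q*Q^2 + q^2*Q^2) * x 1 + (q*Q^3 + q^2*Q^3 + q^3*Q^3) * x 0 + (q^3*Q^4) * x (-1)
  else if l = 0 then (1 + Q + q*Q + q*Q^2) * x 1 + (-1 + Q^2 - q*Q + q*Q^3) * x 0 +
    (q^2*Q^2 + q^2*Q^3 + q^3*Q^3 + q^3*Q^4) * x (-1)
  else if l = -1 then x 1 + (Q + q*Q + q^2*Q) * x 0 +
    (-1 + Q^2 - q*Q + q*Q^2 + q*Q^3 - q^2*Q + q^2*Q^2 + q^2*Q^3 + q^3*Q^3) * x (-1) + (q^3*Q^4) * x (-2)
  else (1 + Q + q*Q + q*Q^2 + q^2*Q + q^2*Q^2 + q^3*Q^2 + q^3*Q^3) * x (-1) +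
    (-1 + Q^2 - q*Q + q*Q^3 - q^2*Q + q^2*Q^3 - q^3*Q^2 + q^3*Q^4) * x (-2)

variable (x : ℤ → ℂ)

theorem row_2 : row q Q x 2 = (Q + Q^2 + q*Q^2 + q*Q^3 + q^2*Q^2 + q^2*Q^3 + q^3*Q^3 + q^3*Q^4) * x 1 := by
  simp [row]

theorem row_1 : row q Q x 1 = x 2 + (-1 + Q + Q^2 + q*Q^2 + q^2*Q^2) * x 1 + (q*Q^3 + q^2*Q^3 + q^3*Q^3) * x 0 +
    (q^3*Q^4) * x (-1) := by
  simp [row]

theorem row_0 : row q Q x 0 = (1 + Q + q*Q + q*Q^2) * x 1 + (-1 + Q^2 - q*Q + q*Q^3) * x 0 +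
    (q^2*Q^2 + q^2*Q^3 + q^3*Q^3 + q^3*Q^4) * x (-1) := by
  simp [row]

theorem row_n1 : row q Q x (-1) = x 1 + (Q + q*Q + q^2*Q) * x 0 +
    (-1 + Q^2 - q*Q + q*Q^2 + q*Q^3 - q^2*Q + q^2*Q^2 + q^2*Q^3 + q^3*Q^3) * x (-1) + (q^3*Q^4) * x (-2) := by
  simp [row]

theorem row_n2 : row q Q x (-2) = (1 + Q + q*Q + q*Q^2 + q^2*Q + q^2*Q^2 + q^3*Q^2 + q^3*Q^3) * x (-1) +
    (-1 + Q^2 - q*Q + q*Q^3 - q^2*Q + q^2*Q^3 - q^3*Q^2 + q^3*Q^4) * x (-2) := by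
  simp [row]

theorem F_eq : (fun k => x (lv k)) = F (x 2) (x 1) (x 0) (x (-1)) (x (-2)) := by
  funext k
  fin_cases k <;> rfl

theorem S_eq (k : Fin 24) : S q Q (x 2) (x 1) (x 0) (x (-1)) (x (-2)) k = row q Q x (lv k) := by
  fin_cases k
  case «0» => exact (row_2 q Q x).symm
  case «23» => exact (row_n2 q Q x).symm
  all_goals first
    | exact (row_1 q Q x).symm
    | exact (row_0 q Q x).symm
    | exact (row_n1 q Q x).symm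

theorem row_eq (k : Fin 24) : tauL sg ep (par q Q) LW (fun k => x (lv k)) k = row q Q x (lv k) := by
  rw [F_eq, ← S_eq, ← stageS]
  have e0 := stage0 q Q (x 2) (x 1) (x 0) (x (-1)) (x (-2))
  have e1 := stage1 q Q (x 2) (x 1) (x 0) (x (-1)) (x (-2))
  have e2 := stage2 q Q (x 2) (x 1) (x 0) (x (-1)) (x (-2))
  have e3 := stage3 q Q (x 2) (x 1) (x 0) (x (-1)) (x (-2))
  have e4 := stage4 q Q (x 2) (x 1) (x 0) (x (-1)) (x (-2))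
  have e5 := stage5 q Q (x 2) (x 1) (x 0) (x (-1)) (x (-2))
  have e6 := stage6 q Q (x 2) (x 1) (x 0) (x (-1)) (x (-2))
  have e7 := stage7 q Q (x 2) (x 1) (x 0) (x (-1)) (x (-2))
  simp only [tauL, LW, List.map_cons, List.map_nil, List.sum_cons, List.sum_nil, tauW_cons, tauW_nil, e0, e1, e2, e3, e4,
    e5, e6, e7]
  ring

/-- the eigenvalue -/
noncomputable def th : ℂ := (q * Q + 1) * (Q ^ 2 - 1)

/-- the eigenfunction -/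
noncomputable def ph (l : ℤ) : ℂ :=
  if l = 2 then 1
  else if l = 1 then (Q - 1) / (Q * (1 + q ^ 2 * Q))
  else if l = 0 then (-Q + q - q*Q - q*Q^2 + q*Q^3 - q^2*Q^2) / (q * Q ^ 3 * (q ^ 2 + q + 1) * (1 + q ^ 2 * Q))
  else if l = -1 then -(Q - 1) / (q ^ 2 * Q ^ 3 * (1 + q ^ 2 * Q))
  else 1 / (q ^ 4 * Q ^ 4)

theorem ph_2 : ph q Q 2 = 1 := by simp [ph]
theorem ph_1 : ph q Q 1 = (Q - 1) / (Q * (1 + q ^ 2 * Q)) := by simp [ph]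
theorem ph_0 : ph q Q 0 = (-Q + q - q*Q - q*Q^2 + q*Q^3 - q^2*Q^2) / (q * Q ^ 3 * (q ^ 2 + q + 1) * (1 + q ^ 2 * Q)) := by
  simp [ph]
theorem ph_n1 : ph q Q (-1) = -(Q - 1) / (q ^ 2 * Q ^ 3 * (1 + q ^ 2 * Q)) := by simp [ph]
theorem ph_n2 : ph q Q (-2) = 1 / (q ^ 4 * Q ^ 4) := by simp [ph]

variable {q Q} (hq : q ≠ 0) (hQ : Q ≠ 0) (h1 : 1 + q ^ 2 * Q ≠ 0) (h2 : q ^ 2 + q + 1 ≠ 0) (h3 : 1 + Q ≠ 0)
  (h4 : 1 + q * Q ≠ 0)

include hq hQ h1 h2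

theorem eig (l : ℤ) (hl : l = 2 ∨ l = 1 ∨ l = 0 ∨ l = -1 ∨ l = -2) : row q Q (ph q Q) l = th q Q * ph q Q l := by
  obtain ⟨d1, hd1⟩ : ∃ d, d = 1 + q ^ 2 * Q := ⟨_, rfl⟩
  obtain ⟨d2, hd2⟩ : ∃ d, d = q ^ 2 + q + 1 := ⟨_, rfl⟩
  rw [← hd1] at h1
  rw [← hd2] at h2
  rcases hl with rfl | rfl | rfl | rfl | rfl
  · rw [row_2, ph_2, ph_1, th, ← hd1]
    field_simp
    rw [hd1]
    ring
  · rw [row_1, ph_2, ph_1, ph_0, ph_n1, th, ← hd1, ← hd2]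
    field_simp
    rw [hd1, hd2]
    ring
  · rw [row_0, ph_1, ph_0, ph_n1, th, ← hd1, ← hd2]
    field_simp
    rw [hd2]
    ring
  · rw [row_n1, ph_1, ph_0, ph_n1, ph_n2, th, ← hd1, ← hd2]
    field_simp
    rw [hd1, hd2]
    ring
  · rw [row_n2, ph_n1, ph_n2, th, ← hd1]
    field_simp
    rw [hd1]
    ring

include h3 h4

theorem uniq (x : ℤ → ℂ) (hx : ∀ l : ℤ, l = 2 ∨ l = 1 ∨ l = 0 ∨ l = -1 ∨ l = -2 → row q Q x l = th q Q * x l)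
    (l : ℤ) (hl : l = 2 ∨ l = 1 ∨ l = 0 ∨ l = -1 ∨ l = -2) : x l = x 2 * ph q Q l := by
  have e2 := hx 2 (by simp)
  have e1 := hx 1 (by simp)
  have e0 := hx 0 (by simp)
  have en := hx (-1) (by simp)
  have f2 := eig hq hQ h1 h2 2 (by simp)
  have f1 := eig hq hQ h1 h2 1 (by simp)
  have f0 := eig hq hQ h1 h2 0 (by simp)
  have fn := eig hq hQ h1 h2 (-1) (by simp)
  rw [row_2] at e2 f2
  rw [row_1] at e1 f1
  rw [row_0] at e0 f0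
  rw [row_n1] at en fn
  rw [ph_2] at f2 f1
  have g1 : x 1 - x 2 * ph q Q 1 = 0 := by
    have : (Q * (1 + Q) * (1 + q * Q) * (1 + q ^ 2 * Q)) * (x 1 - x 2 * ph q Q 1) = 0 := by
      linear_combination e2 - x 2 * f2
    refine (mul_eq_zero.1 this).resolve_left ?_
    exact mul_ne_zero (mul_ne_zero (mul_ne_zero hQ h3) h4) h1
  have g0 : x 0 - x 2 * ph q Q 0 = 0 := by
    have : (q ^ 3 * Q ^ 5 * (1 + Q) * (1 + q * Q) * (q ^ 2 + q + 1)) * (x 0 - x 2 * ph q Q 0) = 0 := by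
      unfold th at e1 e0 f1 f0
      linear_combination (q^2*Q^2 + q^2*Q^3 + q^3*Q^3 + q^3*Q^4) * (e1 - x 2 * f1) - (q^3*Q^4) * (e0 - x 2 * f0) +
        ((q^2*Q^2 + q^2*Q^3 + q^3*Q^3 + q^3*Q^4) * ((q * Q + 1) * (Q ^ 2 - 1) - (-1 + Q + Q^2 + q*Q^2 + q^2*Q^2)) +
          (q^3*Q^4) * (1 + Q + q*Q + q*Q^2)) * g1
    refine (mul_eq_zero.1 this).resolve_left ?_
    exact mul_ne_zero (mul_ne_zero (mul_ne_zero (mul_ne_zero (pow_ne_zero 3 hq) (pow_ne_zero 5 hQ)) h3) h4) h2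
  have gn : x (-1) - x 2 * ph q Q (-1) = 0 := by
    have : (q ^ 3 * Q ^ 4) * (x (-1) - x 2 * ph q Q (-1)) = 0 := by
      linear_combination (e1 - x 2 * f1) + (th q Q - (-1 + Q + Q^2 + q*Q^2 + q^2*Q^2)) * g1 -
        (q*Q^3 + q^2*Q^3 + q^3*Q^3) * g0
    refine (mul_eq_zero.1 this).resolve_left ?_
    exact mul_ne_zero (pow_ne_zero 3 hq) (pow_ne_zero 4 hQ)
  have gm : x (-2) - x 2 * ph q Q (-2) = 0 := by
    have : (q ^ 3 * Q ^ 4) * (x (-2) - x 2 * ph q Q (-2)) = 0 := by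
      linear_combination (en - x 2 * fn) + (th q Q - (-1 + Q^2 - q*Q + q*Q^2 + q*Q^3 - q^2*Q + q^2*Q^2 + q^2*Q^3 + q^3*Q^3)) * gn -
        g1 - (Q + q*Q + q^2*Q) * g0
    refine (mul_eq_zero.1 this).resolve_left ?_
    exact mul_ne_zero (pow_ne_zero 3 hq) (pow_ne_zero 4 hQ)
  rcases hl with rfl | rfl | rfl | rfl | rfl
  · rw [ph_2, mul_one]
  · linear_combination g1
  · linear_combination g0
  · linear_combination gn
  · linear_combination gm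

end alg

/-- the levels -/
def Lv : Finset ℤ := {2, 1, 0, -1, -2}

theorem mem_Lv {l : ℤ} : l ∈ Lv ↔ l = 2 ∨ l = 1 ∨ l = 0 ∨ l = -1 ∨ l = -2 := by
  simp [Lv]

theorem sum_Lv (f : ℤ → ℂ) : ∑ l ∈ Lv, f l = f 2 + f 1 + f 0 + f (-1) + f (-2) := by
  unfold Lv
  rw [Finset.sum_insert (by decide), Finset.sum_insert (by decide), Finset.sum_insert (by decide),
    Finset.sum_insert (by decide), Finset.sum_singleton]
  ring

theorem lv_mem (k : Fin 24) : lv k ∈ Lv := by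
  revert k; decide +kernel

/-- the sizes -/
theorem sizes {q Q : ℂ} (h5 : (1 + Q) * (1 + q * Q) * (1 + Q * (1 + q + q ^ 2) + q ^ 2 * Q ^ 2) ≠ 0)
    (h6 : (1 + Q) * (1 + q * Q) * (1 + q ^ 2 * Q) ≠ 0) (K : ℤ → ℂ)
    (hK : ∀ x : ℤ → ℂ, (LW.map fun ω => (ω.map (par q Q)).prod).sum * ∑ l ∈ Lv, K l * x l =
      ∑ l ∈ Lv, K l * row q Q x l) :
    K 1 = K 2 * (Q * (1 + Q) * (1 + q * Q) * (1 + q ^ 2 * Q)) ∧
    K 0 = K 2 * (q * Q ^ 4 * (1 + q + q ^ 2) * (1 + q ^ 2 * Q)) ∧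
    K (-1) = K 2 * (q ^ 3 * Q ^ 5 * (1 + Q) * (1 + q * Q) * (1 + q ^ 2 * Q)) ∧
    K (-2) = K 2 * (q ^ 6 * Q ^ 9) := by
  have hN : (LW.map fun ω => (ω.map (par q Q)).prod).sum = Q * (1 + Q) * (1 + q * Q) * (1 + q ^ 2 * Q) := by
    have p0 : par q Q 0 = q := rfl
    have p1 : par q Q 1 = q := rfl
    have p2 : par q Q 2 = Q := rfl
    have p3 : par q Q 3 = Q := rfl
    simp only [LW, List.map_cons, List.map_nil, List.prod_cons, List.prod_nil, List.sum_cons, List.sum_nil, p0, p1, p2, p3]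
    ring
  rw [hN] at hK
  have e2 := hK fun l => if l = 2 then 1 else 0
  have e1 := hK fun l => if l = 1 then 1 else 0
  have e0 := hK fun l => if l = 0 then 1 else 0
  have en := hK fun l => if l = -1 then 1 else 0
  simp only [sum_Lv, row_2, row_1, row_0, row_n1, row_n2] at e2 e1 e0 en
  norm_num at e2 e1 e0 en
  have g1 : K 1 = K 2 * (Q * (1 + Q) * (1 + q * Q) * (1 + q ^ 2 * Q)) := by
    linear_combination -e2
  have g0 : K 0 = K 2 * (q * Q ^ 4 * (1 + q + q ^ 2) * (1 + q ^ 2 * Q)) := by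
    refine sub_eq_zero.1 ((mul_eq_zero.1 (?_ : ((1 + Q) * (1 + q * Q) * (1 + Q * (1 + q + q ^ 2) + q ^ 2 * Q ^ 2)) *
      _ = 0)).resolve_left h5)
    rw [g1] at e1 e0
    linear_combination -(Q + q*Q + q^2*Q) * e1 + e0
  have gn : K (-1) = K 2 * (q ^ 3 * Q ^ 5 * (1 + Q) * (1 + q * Q) * (1 + q ^ 2 * Q)) := by
    rw [g1, g0] at e1
    linear_combination -e1
  refine ⟨g1, g0, gn, ?_⟩
  rw [g1, g0, gn] at en
  refine sub_eq_zero.1 ((mul_eq_zero.1 (?_ : ((1 + Q) * (1 + q * Q) * (1 + q ^ 2 * Q)) * _ = 0)).resolve_left h6)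
  linear_combination -en

/-- `∑ k_l` -/
noncomputable def V (q Q : ℂ) : ℂ :=
  1 + Q * (1 + Q) * (1 + q * Q) * (1 + q ^ 2 * Q) + q * Q ^ 4 * (1 + q + q ^ 2) * (1 + q ^ 2 * Q) +
    q ^ 3 * Q ^ 5 * (1 + Q) * (1 + q * Q) * (1 + q ^ 2 * Q) + q ^ 6 * Q ^ 9

/-- `∑ k_l φ_l²` -/
noncomputable def V2 (q Q : ℂ) : ℂ :=
  1 + Q * (1 + Q) * (1 + q * Q) * (1 + q ^ 2 * Q) * ph q Q 1 ^ 2 +
    q * Q ^ 4 * (1 + q + q ^ 2) * (1 + q ^ 2 * Q) * ph q Q 0 ^ 2 +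
    q ^ 3 * Q ^ 5 * (1 + Q) * (1 + q * Q) * (1 + q ^ 2 * Q) * ph q Q (-1) ^ 2 + q ^ 6 * Q ^ 9 * ph q Q (-2) ^ 2

universe u

/-- **The rank 5 character.** -/
theorem exists_char {W : Type*} {Y : Type u} [Group W] [Group Y] {M : CoxeterMatrix (Fin 4)}
    {cs : CoxeterSystem M W} {A : Fin 4 → Fin 4 → ℤ} {h : IsCartan M A} {p : ℕ} {T : Subgroup Y} {n : Fin 4 → Y}
    {X : (Fin 4 → ℤ) → Subgroup Y} [Finite W] [Finite Y] (R : RGD cs h p T n X) (hG : GG cs h T X = ⊤)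
    (D : Tab A (Fin 24)) (hσ : D.σ = sg) (hε : D.ε = ep) (ho : D.o = 0) (hlv : ∀ k, D.v k 3 = lv k)
    (hpair : ∀ i, i ≠ 3 → pairing A i (D.v D.o) = 0) {q Q : ℕ} (hq : 0 < q) (hQ : 0 < Q)
    (hsize : ∀ i, (Nat.card (X (sr i)) : ℂ) = par q Q i) :
    ∃ χ, IsIrrCharacter Y χ ∧ χ 1 * V2 q Q = V q Q := by
  have : Fintype Y := Fintype.ofFinite Y
  have hreal : ∀ l : ℤ, conj (ph q Q l) = ph q Q l := by
    intro l
    unfold ph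
    split_ifs <;> simp
  have c1 : (q : ℂ) ≠ 0 := by exact_mod_cast hq.ne'
  have c2 : (Q : ℂ) ≠ 0 := by exact_mod_cast hQ.ne'
  have c3 : (1 : ℂ) + (q : ℂ) ^ 2 * Q ≠ 0 := by
    have : ((1 + q ^ 2 * Q : ℕ) : ℂ) ≠ 0 := by rw [Nat.cast_ne_zero]; omega
    push_cast at this; exact this
  have c4 : (q : ℂ) ^ 2 + q + 1 ≠ 0 := by
    have : ((q ^ 2 + q + 1 : ℕ) : ℂ) ≠ 0 := by rw [Nat.cast_ne_zero]; omega
    push_cast at this; exact this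
  have c5 : (1 : ℂ) + Q ≠ 0 := by
    have : ((1 + Q : ℕ) : ℂ) ≠ 0 := by rw [Nat.cast_ne_zero]; omega
    push_cast at this; exact this
  have c6 : (1 : ℂ) + q * Q ≠ 0 := by
    have : ((1 + q * Q : ℕ) : ℂ) ≠ 0 := by rw [Nat.cast_ne_zero]; omega
    push_cast at this; exact this
  have c7 : (1 : ℂ) + Q * (1 + q + q ^ 2) + q ^ 2 * Q ^ 2 ≠ 0 := by
    have : ((1 + Q * (1 + q + q ^ 2) + q ^ 2 * Q ^ 2 : ℕ) : ℂ) ≠ 0 := by rw [Nat.cast_ne_zero]; omega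
    push_cast at this; exact this
  obtain ⟨κ, hκ⟩ := exists_kap D R hG
  have hv0 : D.v D.o 3 = 2 := by rw [ho, hlv]; rfl
  have hrow : ∀ (x : ℤ → ℂ) k, tauL D.σ D.ε (par q Q) LW (fun k => x (D.v k 3)) k = row q Q x (D.v k 3) := by
    intro x k
    simp only [hσ, hε, hlv]
    exact row_eq q Q x k
  have hne : D.v D.o ≠ 0 := by
    intro h0
    rw [h0] at hv0
    exact absurd hv0 (by decide)
  have hcase : ∀ k, D.v k 3 = 2 ∨ D.v k 3 = 1 ∨ D.v k 3 = 0 ∨ D.v k 3 = -1 ∨ D.v k 3 = -2 := by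
    intro k
    rw [hlv]
    exact mem_Lv.1 (lv_mem k)
  obtain ⟨χ, hχ, hd⟩ := exists_irr_rank R hG hκ hsize hpair hne rp cw cw_ne
    (fun k => by rw [hσ, hlv]; exact rp_eq k) LW (row q Q) hrow (ph q Q) (th q Q) (by rw [hv0, ph_2]) hreal
    (fun k => eig c1 c2 c3 c4 _ (hcase k))
    (fun x hx k => by
      rw [hv0]
      refine uniq c1 c2 c3 c4 c5 c6 x (fun l hl => ?_) _ (hcase k)
      have h8 : ∀ l ∈ Lv, ∃ k, lv k = l := by decide +kernel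
      obtain ⟨k, hk⟩ := h8 l (mem_Lv.2 hl)
      have h9 := hx k
      rwa [hlv, hk] at h9)
  refine ⟨χ, hχ, ?_⟩
  obtain ⟨K, hK0, hK1, hK2⟩ := exists_sizes R hG hκ hsize LW (row q Q) hrow Lv fun k => mem_Lv.2 (hcase k)
  rw [hv0] at hK0
  obtain ⟨k1, k2, k3, k4⟩ := sizes (mul_ne_zero (mul_ne_zero c5 c6) c7) (mul_ne_zero (mul_ne_zero c5 c6) c3) K hK2
  have h10 := hK1 fun l => ph q Q l ^ 2
  have h11 := hK1 fun _ => 1
  simp only [mul_one, Finset.sum_const, Finset.card_univ, nsmul_eq_mul] at h11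
  rw [h10, Nat.card_eq_fintype_card, h11, sum_Lv, sum_Lv, k1, k2, k3, k4, ph_2] at hd
  have h12 : K 2 * (χ 1 * V2 q Q) = K 2 * V q Q := by
    unfold V2 V
    linear_combination hd
  exact mul_left_cancel₀ hK0 h12

end Cfsg.Agent.H730.Sq.Rank
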