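import Cfsg.Agent.H730.Sq.Op

/-!
# The orbit of 24 vectors for `F₄` and its Hecke operators (helper730, S4844, generated)

`sg`, `ep` : the action of the simple reflections on the 24 cosets of `W(B₃)` in `W(F₄)` and the signs;
`row_eq` : the collinearity operator on the functions of the level.
-/

set_option autoImplicit false
set_option maxRecDepth 20000
set_option maxHeartbeats 4000000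
set_option linter.unusedVariables false

namespace Cfsg.Agent.H730.Sq.Tab24

open Cfsg.Agent.H730.Sq.Op

/-- the action of the simple reflections -/
def sg : Fin 4 → Fin 24 → Fin 24 :=
  ![![0, 1, 2, 4, 3, 6, 5, 9, 8, 7, 10, 11, 12, 13, 14, 17, 18, 15, 16, 20, 19, 21, 22, 23],
    ![0, 1, 3, 2, 4, 5, 8, 7, 6, 11, 10, 9, 12, 15, 16, 13, 14, 17, 18, 19, 21, 20, 22, 23],
    ![0, 2, 1, 5, 6, 3, 4, 7, 10, 9, 8, 13, 14, 11, 12, 15, 19, 17, 20, 16, 18, 22, 21, 23],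
    ![1, 0, 2, 3, 4, 7, 9, 5, 11, 6, 12, 8, 10, 14, 13, 16, 15, 18, 17, 19, 20, 21, 23, 22]]

/-- the signs of the pairings -/
def ep : Fin 4 → Fin 24 → ℤ :=
  ![![0, 0, 0, 1, -1, 1, -1, 1, 0, -1, 0, 0, 0, 0, 0, 1, 1, -1, -1, 1, -1, 0, 0, 0],
    ![0, 0, 1, -1, 0, 0, 1, 0, -1, 1, 0, -1, 0, 1, 1, -1, -1, 0, 0, 0, 1, -1, 0, 0],
    ![0, 1, -1, 1, 1, -1, -1, 0, 1, 0, -1, 1, 1, -1, -1, 0, 1, 0, 1, -1, -1, 1, -1, 0],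
    ![1, -1, 0, 0, 0, 1, 1, -1, 1, -1, 1, -1, -1, 1, -1, 1, -1, 1, -1, 0, 0, 0, 1, -1]]

/-- the levels -/
def lv : Fin 24 → ℤ :=
  ![2, 1, 1, 1, 1, 1, 1, 0, 1, 0, 1, 0, -1, 0, -1, 0, -1, 0, -1, -1, -1, -1, -1, -2]

/-- paths from the base point -/
def wd : Fin 24 → List (Fin 4) :=
  ![[], [3], [2, 3], [1, 2, 3], [0, 1, 2, 3], [2, 1, 2, 3], [2, 0, 1, 2, 3], [3, 2, 1, 2, 3], [1, 2, 0, 1, 2, 3], [3, 2, 0, 1, 2, 3], [2, 1, 2, 0, 1, 2, 3], [3, 1, 2, 0, 1, 2, 3], [3, 2, 1, 2, 0, 1, 2, 3], [2, 3, 1, 2, 0, 1, 2, 3], [2, 3, 2, 1, 2, 0, 1, 2, 3], [1, 2, 3, 1, 2, 0, 1, 2, 3], [1, 2, 3, 2, 1, 2, 0, 1, 2, 3], [0, 1, 2, 3, 1, 2, 0, 1, 2, 3], [0, 1, 2, 3, 2, 1, 2, 0, 1, 2, 3], [2, 1, 2, 3, 2, 1, 2, 0, 1, 2, 3], [2, 0, 1, 2, 3, 2, 1, 2, 0, 1, 2, 3], [1,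 2, 0, 1, 2, 3, 2, 1, 2, 0, 1, 2, 3], [2, 1, 2, 0, 1, 2, 3, 2, 1, 2, 0, 1, 2, 3], [3, 2, 1, 2, 0, 1, 2, 3, 2, 1, 2, 0, 1, 2, 3]]

/-- paths inside a level -/
def cw : Fin 24 → List (Fin 4) :=
  ![[], [], [2], [2, 1], [2, 1, 0], [2, 1, 2], [2, 1, 0, 2], [], [2, 1, 0, 2, 1], [0], [2, 1, 0, 2, 1, 2], [0, 1], [], [0, 1, 2], [2], [0, 1, 2, 1], [2, 1], [0, 1, 2, 1, 0], [2, 1, 0], [2, 1, 2], [2, 1, 0, 2], [2, 1, 0, 2, 1], [2, 1, 0, 2, 1, 2], []]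

/-- representatives of the levels -/
def rp (l : ℤ) : Fin 24 := if l = 2 then 0 else if l = 1 then 1 else if l = 0 then 7 else if l = -1 then 12 else 23

/-- the vectors, orientation of `²E₆` -/
def vA : Fin 24 → Fin 4 → ℤ :=
  ![![1, 2, 3, 2], ![1, 2, 3, 1], ![1, 2, 2, 1], ![1, 1, 2, 1], ![0, 1, 2, 1], ![1, 1, 1, 1], ![0, 1, 1, 1], ![1, 1, 1, 0], ![0, 0, 1, 1], ![0, 1, 1, 0], ![0, 0, 0, 1], ![0, 0, 1, 0], ![0, 0, 0, -1], ![0, 0, -1, 0], ![0, 0, -1, -1], ![0, -1, -1, 0], ![0, -1, -1, -1], ![-1, -1, -1, 0], ![-1, -1, -1, -1], ![0, -1, -2, -1], ![-1, -1, -2, -1], ![-1, -2, -2, -1], ![-1, -2, -3, -1], ![-1, -2, -3, -2]]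

/-- the vectors, orientation of `F₄` -/
def vB : Fin 24 → Fin 4 → ℤ :=
  ![![2, 4, 3, 2], ![2, 4, 3, 1], ![2, 4, 2, 1], ![2, 2, 2, 1], ![0, 2, 2, 1], ![2, 2, 1, 1], ![0, 2, 1, 1], ![2, 2, 1, 0], ![0, 0, 1, 1], ![0, 2, 1, 0], ![0, 0, 0, 1], ![0, 0, 1, 0], ![0, 0, 0, -1], ![0, 0, -1, 0], ![0, 0, -1, -1], ![0, -2, -1, 0], ![0, -2, -1, -1], ![-2, -2, -1, 0], ![-2, -2, -1, -1], ![0, -2, -2, -1], ![-2, -2, -2, -1], ![-2, -4, -2, -1], ![-2, -4, -3, -1], ![-2, -4, -3, -2]]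

theorem cw_ne : ∀ k, ∀ i ∈ cw k, i ≠ 3 := by decide +kernel

theorem rp_eq : ∀ k, (cw k).foldr sg k = rp (lv k) := by decide +kernel

theorem wd_eq : ∀ k, (wd k).foldr sg 0 = k := by decide +kernel

/-- the parameters -/
noncomputable def par (q Q : ℂ) : Fin 4 → ℂ := ![q, q, Q, Q]

section

variable (q Q : ℂ) (Φ : Fin 24 → ℂ)

theorem tau_pos {i : Fin 4} {k : Fin 24} (h : ep i k = 1) : tau sg ep (par q Q) i Φ k = par q Q i * Φ (sg i k) :=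
  if_pos h

theorem tau_zer {i : Fin 4} {k : Fin 24} (h : ep i k = 0) : tau sg ep (par q Q) i Φ k = par q Q i * Φ k := by
  rw [tau, if_neg (by rw [h]; norm_num), if_pos h]

theorem tau_neg {i : Fin 4} {k : Fin 24} (h : ep i k = -1) :
    tau sg ep (par q Q) i Φ k = Φ (sg i k) + (par q Q i - 1) * Φ k := by
  rw [tau, if_neg (by rw [h]; norm_num), if_neg (by rw [h]; norm_num)]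

end

variable (q Q a b c d e : ℂ)

/-- the function of the level -/
noncomputable def F (a b c d e : ℂ) : Fin 24 → ℂ :=
  ![a, b, b, b, b, b, b, c, b, c, b, c, d, c, d, c, d, c, d, d, d, d, d, e]

/-- stage 0 -/
noncomputable def G0 (q Q a b c d e : ℂ) : Fin 24 → ℂ :=
  ![(Q)*b,
    a + (-1 + Q)*b,
    (Q)*b,
    (Q)*b,
    (Q)*b,
    (Q)*c,
    (Q)*c,
    b + (-1 + Q)*c,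
    (Q)*c,
    b + (-1 + Q)*c,
    (Q)*d,
    b + (-1 + Q)*c,
    b + (-1 + Q)*d,
    (Q)*d,
    c + (-1 + Q)*d,
    (Q)*d,
    c + (-1 + Q)*d,
    (Q)*d,
    c + (-1 + Q)*d,
    (Q)*d,
    (Q)*d,
    (Q)*d,
    (Q)*e,
    d + (-1 + Q)*e]

/-- stage 1 -/
noncomputable def G1 (q Q a b c d e : ℂ) : Fin 24 → ℂ :=
  ![(Q^2)*b,
    (Q^2)*b,
    a + (-1 + Q^2)*b,
    (Q^2)*c,
    (Q^2)*c,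
    (Q)*b + (-Q + Q^2)*c,
    (Q)*b + (-Q + Q^2)*c,
    (Q)*b + (-Q + Q^2)*c,
    (Q^2)*d,
    (Q)*b + (-Q + Q^2)*c,
    (Q)*c + (-Q + Q^2)*d,
    (Q^2)*d,
    (Q)*c + (-Q + Q^2)*d,
    b + (-1 + Q)*c + (-Q + Q^2)*d,
    b + (-1 + Q)*c + (-Q + Q^2)*d,
    (Q^2)*d,
    (Q^2)*d,
    (Q^2)*d,
    (Q^2)*d,
    c + (-1 + Q^2)*d,
    c + (-1 + Q^2)*d,
    (Q^2)*e,
    (Q)*d + (-Q + Q^2)*e,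
    (Q)*d + (-Q + Q^2)*e]

/-- stage 2 -/
noncomputable def G2 (q Q a b c d e : ℂ) : Fin 24 → ℂ :=
  ![(q*Q^2)*b,
    (q*Q^2)*b,
    (q*Q^2)*c,
    a + (-1 + Q^2)*b + (-Q^2 + q*Q^2)*c,
    (q*Q^2)*c,
    (q*Q)*b + (-q*Q + q*Q^2)*c,
    (q*Q^2)*d,
    (q*Q)*b + (-q*Q + q*Q^2)*c,
    (Q)*b + (-Q + Q^2)*c + (-Q^2 + q*Q^2)*d,
    (q*Q^2)*d,
    (q*Q)*c + (-q*Q + q*Q^2)*d,
    (Q)*b + (-Q + Q^2)*c + (-Q^2 + q*Q^2)*d,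
    (q*Q)*c + (-q*Q + q*Q^2)*d,
    (q*Q^2)*d,
    (q*Q^2)*d,
    b + (-1 + Q)*c + (-Q + q*Q^2)*d,
    b + (-1 + Q)*c + (-Q + q*Q^2)*d,
    (q*Q^2)*d,
    (q*Q^2)*d,
    (q)*c + (-q + q*Q^2)*d,
    (q*Q^2)*e,
    c + (-1 + Q^2)*d + (-Q^2 + q*Q^2)*e,
    (q*Q)*d + (-q*Q + q*Q^2)*e,
    (q*Q)*d + (-q*Q + q*Q^2)*e]

/-- stage 3 -/
noncomputable def G3 (q Q a b c d e : ℂ) : Fin 24 → ℂ :=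
  ![(q*Q^3)*b,
    (q*Q^3)*c,
    (q*Q^2)*b + (-q*Q^2 + q*Q^3)*c,
    (q*Q^2)*b + (-q*Q^2 + q*Q^3)*c,
    (q*Q^3)*d,
    a + (-1 + Q^2 - q*Q + q*Q^2)*b + (-Q^2 + q*Q - q*Q^2 + q*Q^3)*c,
    (q*Q^2)*c + (-q*Q^2 + q*Q^3)*d,
    (q*Q^2)*b + (-q*Q^2 + q*Q^3)*c,
    (q*Q^2)*c + (-q*Q^2 + q*Q^3)*d,
    (q*Q^3)*d,
    (Q)*b + (-Q + Q^2 - q*Q + q*Q^2)*c + (-Q^2 + q*Q - q*Q^2 + q*Q^3)*d,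
    (q*Q^3)*d,
    (q*Q^3)*d,
    (Q)*b + (-Q + Q^2)*c + (-Q^2 + q*Q^3)*d,
    (q*Q)*c + (-q*Q + q*Q^3)*d,
    (Q)*b + (-Q + Q^2)*c + (-Q^2 + q*Q^3)*d,
    (q*Q)*c + (-q*Q + q*Q^3)*d,
    (q*Q^3)*d,
    (q*Q^3)*e,
    b + (-1 + Q - q + q*Q)*c + (-Q + q - q*Q + q*Q^3)*d,
    (q*Q^2)*d + (-q*Q^2 + q*Q^3)*e,
    (q*Q^2)*d + (-q*Q^2 + q*Q^3)*e,
    c + (-1 + Q^2 - q*Q + q*Q^2)*d + (-Q^2 + q*Q - q*Q^2 + q*Q^3)*e,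
    (q*Q^2)*d + (-q*Q^2 + q*Q^3)*e]

/-- stage 4 -/
noncomputable def G4 (q Q a b c d e : ℂ) : Fin 24 → ℂ :=
  ![(q^2*Q^2)*b,
    (q^2*Q^2)*b,
    (q^2*Q^2)*c,
    (q^2*Q^2)*c,
    a + (-1 + Q^2)*b + (-Q^2 + q^2*Q^2)*c,
    (q^2*Q^2)*d,
    (q*Q)*b + (-q*Q + q*Q^2)*c + (-q*Q^2 + q^2*Q^2)*d,
    (q^2*Q^2)*d,
    (q*Q)*b + (-q*Q + q*Q^2)*c + (-q*Q^2 + q^2*Q^2)*d,
    (q*Q)*b + (-q*Q + q*Q^2)*c + (-q*Q^2 + q^2*Q^2)*d,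
    (q^2*Q)*c + (-q^2*Q + q^2*Q^2)*d,
    (q*Q)*b + (-q*Q + q*Q^2)*c + (-q*Q^2 + q^2*Q^2)*d,
    (q^2*Q)*c + (-q^2*Q + q^2*Q^2)*d,
    (q^2*Q^2)*d,
    (q^2*Q^2)*d,
    (q^2*Q^2)*d,
    (q^2*Q^2)*d,
    b + (-1 + Q)*c + (-Q + q^2*Q^2)*d,
    b + (-1 + Q)*c + (-Q + q^2*Q^2)*d,
    (q^2*Q^2)*e,
    (q)*c + (-q + q*Q^2)*d + (-q*Q^2 + q^2*Q^2)*e,
    (q)*c + (-q + q*Q^2)*d + (-q*Q^2 + q^2*Q^2)*e,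
    (q^2*Q)*d + (-q^2*Q + q^2*Q^2)*e,
    (q^2*Q)*d + (-q^2*Q + q^2*Q^2)*e]

/-- stage 5 -/
noncomputable def G5 (q Q a b c d e : ℂ) : Fin 24 → ℂ :=
  ![(q^2*Q^3)*b,
    (q^2*Q^3)*c,
    (q^2*Q^2)*b + (-q^2*Q^2 + q^2*Q^3)*c,
    (q^2*Q^3)*d,
    (q*Q^2)*b + (-q*Q^2 + q*Q^3)*c + (-q*Q^3 + q^2*Q^3)*d,
    (q^2*Q^2)*c + (-q^2*Q^2 + q^2*Q^3)*d,
    a + (-1 + Q^2 - q*Q + q*Q^2)*b + (-Q^2 + q*Q - 2*q*Q^2 + q*Q^3 + q^2*Q^2)*c + (q*Q^2 - q*Q^3 - q^2*Q^2 + q^2*Q^3)*d,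
    (q^2*Q^3)*d,
    (q^2*Q^2)*c + (-q^2*Q^2 + q^2*Q^3)*d,
    (q*Q^2)*b + (-q*Q^2 + q*Q^3)*c + (-q*Q^3 + q^2*Q^3)*d,
    (q*Q)*b + (-q*Q + q*Q^2 - q^2*Q + q^2*Q^2)*c + (-q*Q^2 + q^2*Q - q^2*Q^2 + q^2*Q^3)*d,
    (q^2*Q^3)*d,
    (q^2*Q^3)*d,
    (q*Q)*b + (-q*Q + q*Q^2)*c + (-q*Q^2 + q^2*Q^3)*d,
    (q^2*Q)*c + (-q^2*Q + q^2*Q^3)*d,
    (q^2*Q^3)*d,
    (q^2*Q^3)*e,
    (Q)*b + (-Q + Q^2)*c + (-Q^2 + q^2*Q^3)*d,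
    (q*Q)*c + (-q*Q + q*Q^3)*d + (-q*Q^3 + q^2*Q^3)*e,
    (q^2*Q^2)*d + (-q^2*Q^2 + q^2*Q^3)*e,
    b + (-1 + Q - q + q*Q)*c + (-Q + q - q*Q - q*Q^2 + q*Q^3 + q^2*Q^2)*d + (q*Q^2 - q*Q^3 - q^2*Q^2 + q^2*Q^3)*e,
    (q^2*Q^2)*d + (-q^2*Q^2 + q^2*Q^3)*e,
    (q)*c + (-q + q*Q^2 - q^2*Q + q^2*Q^2)*d + (-q*Q^2 + q^2*Q - q^2*Q^2 + q^2*Q^3)*e,
    (q^2*Q^2)*d + (-q^2*Q^2 + q^2*Q^3)*e]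

/-- stage 6 -/
noncomputable def G6 (q Q a b c d e : ℂ) : Fin 24 → ℂ :=
  ![(q^3*Q^3)*b,
    (q^3*Q^3)*c,
    (q^3*Q^3)*d,
    (q^2*Q^2)*b + (-q^2*Q^2 + q^2*Q^3)*c + (-q^2*Q^3 + q^3*Q^3)*d,
    (q^2*Q^2)*b + (-q^2*Q^2 + q^2*Q^3)*c + (-q^2*Q^3 + q^3*Q^3)*d,
    (q^3*Q^2)*c + (-q^3*Q^2 + q^3*Q^3)*d,
    (q^3*Q^2)*c + (-q^3*Q^2 + q^3*Q^3)*d,
    (q^3*Q^3)*d,
    a + (-1 + Q^2 - q*Q + q*Q^2)*b + (-Q^2 + q*Q - 2*q*Q^2 + q*Q^3 + q^3*Q^2)*c + (q*Q^2 - q*Q^3 - q^3*Q^2 + q^3*Q^3)*d,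
    (q^3*Q^3)*d,
    (q^2*Q)*b + (-q^2*Q + q^2*Q^2 - q^3*Q + q^3*Q^2)*c + (-q^2*Q^2 + q^3*Q - q^3*Q^2 + q^3*Q^3)*d,
    (q*Q^2)*b + (-q*Q^2 + q*Q^3)*c + (-q*Q^3 + q^3*Q^3)*d,
    (q^3*Q^3)*d,
    (q^3*Q^3)*d,
    (q^3*Q^3)*e,
    (q*Q)*b + (-q*Q + q*Q^2)*c + (-q*Q^2 + q^3*Q^3)*d,
    (q^2*Q)*c + (-q^2*Q + q^2*Q^3)*d + (-q^2*Q^3 + q^3*Q^3)*e,
    (q*Q)*b + (-q*Q + q*Q^2)*c + (-q*Q^2 + q^3*Q^3)*d,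
    (q^2*Q)*c + (-q^2*Q + q^2*Q^3)*d + (-q^2*Q^3 + q^3*Q^3)*e,
    (q^3*Q^2)*d + (-q^3*Q^2 + q^3*Q^3)*e,
    (q^3*Q^2)*d + (-q^3*Q^2 + q^3*Q^3)*e,
    b + (-1 + Q - q + q*Q)*c + (-Q + q - q*Q - q*Q^2 + q*Q^3 + q^3*Q^2)*d + (q*Q^2 - q*Q^3 - q^3*Q^2 + q^3*Q^3)*e,
    (q^2)*c + (-q^2 + q^2*Q^2 - q^3*Q + q^3*Q^2)*d + (-q^2*Q^2 + q^3*Q - q^3*Q^2 + q^3*Q^3)*e,
    (q^3*Q^2)*d + (-q^3*Q^2 + q^3*Q^3)*e]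

/-- stage 7 -/
noncomputable def G7 (q Q a b c d e : ℂ) : Fin 24 → ℂ :=
  ![(q^3*Q^4)*b,
    (q^3*Q^4)*d,
    (q^3*Q^3)*c + (-q^3*Q^3 + q^3*Q^4)*d,
    (q^3*Q^3)*c + (-q^3*Q^3 + q^3*Q^4)*d,
    (q^3*Q^3)*c + (-q^3*Q^3 + q^3*Q^4)*d,
    (q^2*Q^2)*b + (-q^2*Q^2 + q^2*Q^3 - q^3*Q^2 + q^3*Q^3)*c + (-q^2*Q^3 + q^3*Q^2 - q^3*Q^3 + q^3*Q^4)*d,
    (q^2*Q^2)*b + (-q^2*Q^2 + q^2*Q^3 - q^3*Q^2 + q^3*Q^3)*c + (-q^2*Q^3 + q^3*Q^2 - q^3*Q^3 + q^3*Q^4)*d,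
    (q^3*Q^4)*d,
    (q^2*Q^2)*b + (-q^2*Q^2 + q^2*Q^3 - q^3*Q^2 + q^3*Q^3)*c + (-q^2*Q^3 + q^3*Q^2 - q^3*Q^3 + q^3*Q^4)*d,
    (q^3*Q^4)*d,
    a + (-1 + Q^2 - q*Q + q*Q^2 - q^2*Q + q^2*Q^2)*b + (-Q^2 + q*Q - 2*q*Q^2 + q*Q^3 + q^2*Q - 2*q^2*Q^2 + q^2*Q^3 + q^3*Q - q^3*Q^2 + q^3*Q^3)*c + (q*Q^2 - q*Q^3 + q^2*Q^2 - q^2*Q^3 - q^3*Q + q^3*Q^2 - q^3*Q^3 + q^3*Q^4)*d,
    (q^3*Q^4)*d,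
    (q^3*Q^4)*e,
    (q*Q^2)*b + (-q*Q^2 + q*Q^3)*c + (-q*Q^3 + q^3*Q^4)*d,
    (q^3*Q^3)*d + (-q^3*Q^3 + q^3*Q^4)*e,
    (q*Q^2)*b + (-q*Q^2 + q*Q^3)*c + (-q*Q^3 + q^3*Q^4)*d,
    (q^3*Q^3)*d + (-q^3*Q^3 + q^3*Q^4)*e,
    (q*Q^2)*b + (-q*Q^2 + q*Q^3)*c + (-q*Q^3 + q^3*Q^4)*d,
    (q^3*Q^3)*d + (-q^3*Q^3 + q^3*Q^4)*e,
    (q^2*Q)*c + (-q^2*Q + q^2*Q^3 - q^3*Q^2 + q^3*Q^3)*d + (-q^2*Q^3 + q^3*Q^2 - q^3*Q^3 + q^3*Q^4)*e,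
    (q^2*Q)*c + (-q^2*Q + q^2*Q^3 - q^3*Q^2 + q^3*Q^3)*d + (-q^2*Q^3 + q^3*Q^2 - q^3*Q^3 + q^3*Q^4)*e,
    (q^2*Q)*c + (-q^2*Q + q^2*Q^3 - q^3*Q^2 + q^3*Q^3)*d + (-q^2*Q^3 + q^3*Q^2 - q^3*Q^3 + q^3*Q^4)*e,
    b + (-1 + Q - q + q*Q - q^2 + q^2*Q)*c + (-Q + q - q*Q - q*Q^2 + q*Q^3 + q^2 - q^2*Q - q^2*Q^2 + q^2*Q^3 + q^3*Q - q^3*Q^2 + q^3*Q^3)*d + (q*Q^2 - q*Q^3 + q^2*Q^2 - q^2*Q^3 - q^3*Q + q^3*Q^2 - q^3*Q^3 + q^3*Q^4)*e,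
    (q^3*Q^3)*d + (-q^3*Q^3 + q^3*Q^4)*e]

/-- the sum -/
noncomputable def S (q Q a b c d e : ℂ) : Fin 24 → ℂ :=
  ![(Q + Q^2 + q*Q^2 + q*Q^3 + q^2*Q^2 + q^2*Q^3 + q^3*Q^3 + q^3*Q^4)*b,
    a + (-1 + Q + Q^2 + q*Q^2 + q^2*Q^2)*b + (q*Q^3 + q^2*Q^3 + q^3*Q^3)*c + (q^3*Q^4)*d,
    a + (-1 + Q + Q^2 + q*Q^2 + q^2*Q^2)*b + (q*Q^3 + q^2*Q^3 + q^3*Q^3)*c + (q^3*Q^4)*d,
    a + (-1 + Q + Q^2 + q*Q^2 + q^2*Q^2)*b + (q*Q^3 + q^2*Q^3 + q^3*Q^3)*c + (q^3*Q^4)*d,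
    a + (-1 + Q + Q^2 + q*Q^2 + q^2*Q^2)*b + (q*Q^3 + q^2*Q^3 + q^3*Q^3)*c + (q^3*Q^4)*d,
    a + (-1 + Q + Q^2 + q*Q^2 + q^2*Q^2)*b + (q*Q^3 + q^2*Q^3 + q^3*Q^3)*c + (q^3*Q^4)*d,
    a + (-1 + Q + Q^2 + q*Q^2 + q^2*Q^2)*b + (q*Q^3 + q^2*Q^3 + q^3*Q^3)*c + (q^3*Q^4)*d,
    (1 + Q + q*Q + q*Q^2)*b + (-1 + Q^2 - q*Q + q*Q^3)*c + (q^2*Q^2 + q^2*Q^3 + q^3*Q^3 + q^3*Q^4)*d,
    a + (-1 + Q + Q^2 + q*Q^2 + q^2*Q^2)*b + (q*Q^3 + q^2*Q^3 + q^3*Q^3)*c + (q^3*Q^4)*d,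
    (1 + Q + q*Q + q*Q^2)*b + (-1 + Q^2 - q*Q + q*Q^3)*c + (q^2*Q^2 + q^2*Q^3 + q^3*Q^3 + q^3*Q^4)*d,
    a + (-1 + Q + Q^2 + q*Q^2 + q^2*Q^2)*b + (q*Q^3 + q^2*Q^3 + q^3*Q^3)*c + (q^3*Q^4)*d,
    (1 + Q + q*Q + q*Q^2)*b + (-1 + Q^2 - q*Q + q*Q^3)*c + (q^2*Q^2 + q^2*Q^3 + q^3*Q^3 + q^3*Q^4)*d,
    b + (Q + q*Q + q^2*Q)*c + (-1 + Q^2 - q*Q + q*Q^2 + q*Q^3 - q^2*Q + q^2*Q^2 + q^2*Q^3 + q^3*Q^3)*d + (q^3*Q^4)*e,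
    (1 + Q + q*Q + q*Q^2)*b + (-1 + Q^2 - q*Q + q*Q^3)*c + (q^2*Q^2 + q^2*Q^3 + q^3*Q^3 + q^3*Q^4)*d,
    b + (Q + q*Q + q^2*Q)*c + (-1 + Q^2 - q*Q + q*Q^2 + q*Q^3 - q^2*Q + q^2*Q^2 + q^2*Q^3 + q^3*Q^3)*d + (q^3*Q^4)*e,
    (1 + Q + q*Q + q*Q^2)*b + (-1 + Q^2 - q*Q + q*Q^3)*c + (q^2*Q^2 + q^2*Q^3 + q^3*Q^3 + q^3*Q^4)*d,
    b + (Q + q*Q + q^2*Q)*c + (-1 + Q^2 - q*Q + q*Q^2 + q*Q^3 - q^2*Q + q^2*Q^2 + q^2*Q^3 + q^3*Q^3)*d + (q^3*Q^4)*e,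
    (1 + Q + q*Q + q*Q^2)*b + (-1 + Q^2 - q*Q + q*Q^3)*c + (q^2*Q^2 + q^2*Q^3 + q^3*Q^3 + q^3*Q^4)*d,
    b + (Q + q*Q + q^2*Q)*c + (-1 + Q^2 - q*Q + q*Q^2 + q*Q^3 - q^2*Q + q^2*Q^2 + q^2*Q^3 + q^3*Q^3)*d + (q^3*Q^4)*e,
    b + (Q + q*Q + q^2*Q)*c + (-1 + Q^2 - q*Q + q*Q^2 + q*Q^3 - q^2*Q + q^2*Q^2 + q^2*Q^3 + q^3*Q^3)*d + (q^3*Q^4)*e,
    b + (Q + q*Q + q^2*Q)*c + (-1 + Q^2 - q*Q + q*Q^2 + q*Q^3 - q^2*Q + q^2*Q^2 + q^2*Q^3 + q^3*Q^3)*d + (q^3*Q^4)*e,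
    b + (Q + q*Q + q^2*Q)*c + (-1 + Q^2 - q*Q + q*Q^2 + q*Q^3 - q^2*Q + q^2*Q^2 + q^2*Q^3 + q^3*Q^3)*d + (q^3*Q^4)*e,
    b + (Q + q*Q + q^2*Q)*c + (-1 + Q^2 - q*Q + q*Q^2 + q*Q^3 - q^2*Q + q^2*Q^2 + q^2*Q^3 + q^3*Q^3)*d + (q^3*Q^4)*e,
    (1 + Q + q*Q + q*Q^2 + q^2*Q + q^2*Q^2 + q^3*Q^2 + q^3*Q^3)*d + (-1 + Q^2 - q*Q + q*Q^3 - q^2*Q + q^2*Q^3 - q^3*Q^2 + q^3*Q^4)*e]

theorem stage0 : tau sg ep (par q Q) 3 (F a b c d e) = G0 q Q a b c d e := by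
  funext k
  fin_cases k
  · exact (tau_pos q Q _ rfl).trans (show Q * (b) = (Q)*b by ring)
  · exact (tau_neg q Q _ rfl).trans (show (a) + (Q - 1) * (b) = a + (-1 + Q)*b by ring)
  · exact (tau_zer q Q _ rfl).trans (show Q * (b) = (Q)*b by ring)
  · exact (tau_zer q Q _ rfl).trans (show Q * (b) = (Q)*b by ring)
  · exact (tau_zer q Q _ rfl).trans (show Q * (b) = (Q)*b by ring)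
  · exact (tau_pos q Q _ rfl).trans (show Q * (c) = (Q)*c by ring)
  · exact (tau_pos q Q _ rfl).trans (show Q * (c) = (Q)*c by ring)
  · exact (tau_neg q Q _ rfl).trans (show (b) + (Q - 1) * (c) = b + (-1 + Q)*c by ring)
  · exact (tau_pos q Q _ rfl).trans (show Q * (c) = (Q)*c by ring)
  · exact (tau_neg q Q _ rfl).trans (show (b) + (Q - 1) * (c) = b + (-1 + Q)*c by ring)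
  · exact (tau_pos q Q _ rfl).trans (show Q * (d) = (Q)*d by ring)
  · exact (tau_neg q Q _ rfl).trans (show (b) + (Q - 1) * (c) = b + (-1 + Q)*c by ring)
  · exact (tau_neg q Q _ rfl).trans (show (b) + (Q - 1) * (d) = b + (-1 + Q)*d by ring)
  · exact (tau_pos q Q _ rfl).trans (show Q * (d) = (Q)*d by ring)
  · exact (tau_neg q Q _ rfl).trans (show (c) + (Q - 1) * (d) = c + (-1 + Q)*d by ring)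
  · exact (tau_pos q Q _ rfl).trans (show Q * (d) = (Q)*d by ring)
  · exact (tau_neg q Q _ rfl).trans (show (c) + (Q - 1) * (d) = c + (-1 + Q)*d by ring)
  · exact (tau_pos q Q _ rfl).trans (show Q * (d) = (Q)*d by ring)
  · exact (tau_neg q Q _ rfl).trans (show (c) + (Q - 1) * (d) = c + (-1 + Q)*d by ring)
  · exact (tau_zer q Q _ rfl).trans (show Q * (d) = (Q)*d by ring)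
  · exact (tau_zer q Q _ rfl).trans (show Q * (d) = (Q)*d by ring)
  · exact (tau_zer q Q _ rfl).trans (show Q * (d) = (Q)*d by ring)
  · exact (tau_pos q Q _ rfl).trans (show Q * (e) = (Q)*e by ring)
  · exact (tau_neg q Q _ rfl).trans (show (d) + (Q - 1) * (e) = d + (-1 + Q)*e by ring)

theorem stage1 : tau sg ep (par q Q) 2 (G0 q Q a b c d e) = G1 q Q a b c d e := by
  funext k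
  fin_cases k
  · exact (tau_zer q Q _ rfl).trans (show Q * ((Q)*b) = (Q^2)*b by ring)
  · exact (tau_pos q Q _ rfl).trans (show Q * ((Q)*b) = (Q^2)*b by ring)
  · exact (tau_neg q Q _ rfl).trans (show (a + (-1 + Q)*b) + (Q - 1) * ((Q)*b) = a + (-1 + Q^2)*b by ring)
  · exact (tau_pos q Q _ rfl).trans (show Q * ((Q)*c) = (Q^2)*c by ring)
  · exact (tau_pos q Q _ rfl).trans (show Q * ((Q)*c) = (Q^2)*c by ring)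
  · exact (tau_neg q Q _ rfl).trans (show ((Q)*b) + (Q - 1) * ((Q)*c) = (Q)*b + (-Q + Q^2)*c by ring)
  · exact (tau_neg q Q _ rfl).trans (show ((Q)*b) + (Q - 1) * ((Q)*c) = (Q)*b + (-Q + Q^2)*c by ring)
  · exact (tau_zer q Q _ rfl).trans (show Q * (b + (-1 + Q)*c) = (Q)*b + (-Q + Q^2)*c by ring)
  · exact (tau_pos q Q _ rfl).trans (show Q * ((Q)*d) = (Q^2)*d by ring)
  · exact (tau_zer q Q _ rfl).trans (show Q * (b + (-1 + Q)*c) = (Q)*b + (-Q + Q^2)*c by ring)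
  · exact (tau_neg q Q _ rfl).trans (show ((Q)*c) + (Q - 1) * ((Q)*d) = (Q)*c + (-Q + Q^2)*d by ring)
  · exact (tau_pos q Q _ rfl).trans (show Q * ((Q)*d) = (Q^2)*d by ring)
  · exact (tau_pos q Q _ rfl).trans (show Q * (c + (-1 + Q)*d) = (Q)*c + (-Q + Q^2)*d by ring)
  · exact (tau_neg q Q _ rfl).trans (show (b + (-1 + Q)*c) + (Q - 1) * ((Q)*d) = b + (-1 + Q)*c + (-Q + Q^2)*d by ring)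
  · exact (tau_neg q Q _ rfl).trans (show (b + (-1 + Q)*d) + (Q - 1) * (c + (-1 + Q)*d) = b + (-1 + Q)*c + (-Q + Q^2)*d by ring)
  · exact (tau_zer q Q _ rfl).trans (show Q * ((Q)*d) = (Q^2)*d by ring)
  · exact (tau_pos q Q _ rfl).trans (show Q * ((Q)*d) = (Q^2)*d by ring)
  · exact (tau_zer q Q _ rfl).trans (show Q * ((Q)*d) = (Q^2)*d by ring)
  · exact (tau_pos q Q _ rfl).trans (show Q * ((Q)*d) = (Q^2)*d by ring)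
  · exact (tau_neg q Q _ rfl).trans (show (c + (-1 + Q)*d) + (Q - 1) * ((Q)*d) = c + (-1 + Q^2)*d by ring)
  · exact (tau_neg q Q _ rfl).trans (show (c + (-1 + Q)*d) + (Q - 1) * ((Q)*d) = c + (-1 + Q^2)*d by ring)
  · exact (tau_pos q Q _ rfl).trans (show Q * ((Q)*e) = (Q^2)*e by ring)
  · exact (tau_neg q Q _ rfl).trans (show ((Q)*d) + (Q - 1) * ((Q)*e) = (Q)*d + (-Q + Q^2)*e by ring)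
  · exact (tau_zer q Q _ rfl).trans (show Q * (d + (-1 + Q)*e) = (Q)*d + (-Q + Q^2)*e by ring)

theorem stage2 : tau sg ep (par q Q) 1 (G1 q Q a b c d e) = G2 q Q a b c d e := by
  funext k
  fin_cases k
  · exact (tau_zer q Q _ rfl).trans (show q * ((Q^2)*b) = (q*Q^2)*b by ring)
  · exact (tau_zer q Q _ rfl).trans (show q * ((Q^2)*b) = (q*Q^2)*b by ring)
  · exact (tau_pos q Q _ rfl).trans (show q * ((Q^2)*c) = (q*Q^2)*c by ring)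
  · exact (tau_neg q Q _ rfl).trans (show (a + (-1 + Q^2)*b) + (q - 1) * ((Q^2)*c) = a + (-1 + Q^2)*b + (-Q^2 + q*Q^2)*c by ring)
  · exact (tau_zer q Q _ rfl).trans (show q * ((Q^2)*c) = (q*Q^2)*c by ring)
  · exact (tau_zer q Q _ rfl).trans (show q * ((Q)*b + (-Q + Q^2)*c) = (q*Q)*b + (-q*Q + q*Q^2)*c by ring)
  · exact (tau_pos q Q _ rfl).trans (show q * ((Q^2)*d) = (q*Q^2)*d by ring)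
  · exact (tau_zer q Q _ rfl).trans (show q * ((Q)*b + (-Q + Q^2)*c) = (q*Q)*b + (-q*Q + q*Q^2)*c by ring)
  · exact (tau_neg q Q _ rfl).trans (show ((Q)*b + (-Q + Q^2)*c) + (q - 1) * ((Q^2)*d) = (Q)*b + (-Q + Q^2)*c + (-Q^2 + q*Q^2)*d by ring)
  · exact (tau_pos q Q _ rfl).trans (show q * ((Q^2)*d) = (q*Q^2)*d by ring)
  · exact (tau_zer q Q _ rfl).trans (show q * ((Q)*c + (-Q + Q^2)*d) = (q*Q)*c + (-q*Q + q*Q^2)*d by ring)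
  · exact (tau_neg q Q _ rfl).trans (show ((Q)*b + (-Q + Q^2)*c) + (q - 1) * ((Q^2)*d) = (Q)*b + (-Q + Q^2)*c + (-Q^2 + q*Q^2)*d by ring)
  · exact (tau_zer q Q _ rfl).trans (show q * ((Q)*c + (-Q + Q^2)*d) = (q*Q)*c + (-q*Q + q*Q^2)*d by ring)
  · exact (tau_pos q Q _ rfl).trans (show q * ((Q^2)*d) = (q*Q^2)*d by ring)
  · exact (tau_pos q Q _ rfl).trans (show q * ((Q^2)*d) = (q*Q^2)*d by ring)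
  · exact (tau_neg q Q _ rfl).trans (show (b + (-1 + Q)*c + (-Q + Q^2)*d) + (q - 1) * ((Q^2)*d) = b + (-1 + Q)*c + (-Q + q*Q^2)*d by ring)
  · exact (tau_neg q Q _ rfl).trans (show (b + (-1 + Q)*c + (-Q + Q^2)*d) + (q - 1) * ((Q^2)*d) = b + (-1 + Q)*c + (-Q + q*Q^2)*d by ring)
  · exact (tau_zer q Q _ rfl).trans (show q * ((Q^2)*d) = (q*Q^2)*d by ring)
  · exact (tau_zer q Q _ rfl).trans (show q * ((Q^2)*d) = (q*Q^2)*d by ring)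
  · exact (tau_zer q Q _ rfl).trans (show q * (c + (-1 + Q^2)*d) = (q)*c + (-q + q*Q^2)*d by ring)
  · exact (tau_pos q Q _ rfl).trans (show q * ((Q^2)*e) = (q*Q^2)*e by ring)
  · exact (tau_neg q Q _ rfl).trans (show (c + (-1 + Q^2)*d) + (q - 1) * ((Q^2)*e) = c + (-1 + Q^2)*d + (-Q^2 + q*Q^2)*e by ring)
  · exact (tau_zer q Q _ rfl).trans (show q * ((Q)*d + (-Q + Q^2)*e) = (q*Q)*d + (-q*Q + q*Q^2)*e by ring)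
  · exact (tau_zer q Q _ rfl).trans (show q * ((Q)*d + (-Q + Q^2)*e) = (q*Q)*d + (-q*Q + q*Q^2)*e by ring)

theorem stage3 : tau sg ep (par q Q) 2 (G2 q Q a b c d e) = G3 q Q a b c d e := by
  funext k
  fin_cases k
  · exact (tau_zer q Q _ rfl).trans (show Q * ((q*Q^2)*b) = (q*Q^3)*b by ring)
  · exact (tau_pos q Q _ rfl).trans (show Q * ((q*Q^2)*c) = (q*Q^3)*c by ring)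
  · exact (tau_neg q Q _ rfl).trans (show ((q*Q^2)*b) + (Q - 1) * ((q*Q^2)*c) = (q*Q^2)*b + (-q*Q^2 + q*Q^3)*c by ring)
  · exact (tau_pos q Q _ rfl).trans (show Q * ((q*Q)*b + (-q*Q + q*Q^2)*c) = (q*Q^2)*b + (-q*Q^2 + q*Q^3)*c by ring)
  · exact (tau_pos q Q _ rfl).trans (show Q * ((q*Q^2)*d) = (q*Q^3)*d by ring)
  · exact (tau_neg q Q _ rfl).trans (show (a + (-1 + Q^2)*b + (-Q^2 + q*Q^2)*c) + (Q - 1) * ((q*Q)*b + (-q*Q + q*Q^2)*c) = a + (-1 + Q^2 - q*Q + q*Q^2)*b + (-Q^2 + q*Q - q*Q^2 + q*Q^3)*c by ring)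
  · exact (tau_neg q Q _ rfl).trans (show ((q*Q^2)*c) + (Q - 1) * ((q*Q^2)*d) = (q*Q^2)*c + (-q*Q^2 + q*Q^3)*d by ring)
  · exact (tau_zer q Q _ rfl).trans (show Q * ((q*Q)*b + (-q*Q + q*Q^2)*c) = (q*Q^2)*b + (-q*Q^2 + q*Q^3)*c by ring)
  · exact (tau_pos q Q _ rfl).trans (show Q * ((q*Q)*c + (-q*Q + q*Q^2)*d) = (q*Q^2)*c + (-q*Q^2 + q*Q^3)*d by ring)
  · exact (tau_zer q Q _ rfl).trans (show Q * ((q*Q^2)*d) = (q*Q^3)*d by ring)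
  · exact (tau_neg q Q _ rfl).trans (show ((Q)*b + (-Q + Q^2)*c + (-Q^2 + q*Q^2)*d) + (Q - 1) * ((q*Q)*c + (-q*Q + q*Q^2)*d) = (Q)*b + (-Q + Q^2 - q*Q + q*Q^2)*c + (-Q^2 + q*Q - q*Q^2 + q*Q^3)*d by ring)
  · exact (tau_pos q Q _ rfl).trans (show Q * ((q*Q^2)*d) = (q*Q^3)*d by ring)
  · exact (tau_pos q Q _ rfl).trans (show Q * ((q*Q^2)*d) = (q*Q^3)*d by ring)
  · exact (tau_neg q Q _ rfl).trans (show ((Q)*b + (-Q + Q^2)*c + (-Q^2 + q*Q^2)*d) + (Q - 1) * ((q*Q^2)*d) = (Q)*b + (-Q + Q^2)*c + (-Q^2 + q*Q^3)*d by ring)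
  · exact (tau_neg q Q _ rfl).trans (show ((q*Q)*c + (-q*Q + q*Q^2)*d) + (Q - 1) * ((q*Q^2)*d) = (q*Q)*c + (-q*Q + q*Q^3)*d by ring)
  · exact (tau_zer q Q _ rfl).trans (show Q * (b + (-1 + Q)*c + (-Q + q*Q^2)*d) = (Q)*b + (-Q + Q^2)*c + (-Q^2 + q*Q^3)*d by ring)
  · exact (tau_pos q Q _ rfl).trans (show Q * ((q)*c + (-q + q*Q^2)*d) = (q*Q)*c + (-q*Q + q*Q^3)*d by ring)
  · exact (tau_zer q Q _ rfl).trans (show Q * ((q*Q^2)*d) = (q*Q^3)*d by ring)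
  · exact (tau_pos q Q _ rfl).trans (show Q * ((q*Q^2)*e) = (q*Q^3)*e by ring)
  · exact (tau_neg q Q _ rfl).trans (show (b + (-1 + Q)*c + (-Q + q*Q^2)*d) + (Q - 1) * ((q)*c + (-q + q*Q^2)*d) = b + (-1 + Q - q + q*Q)*c + (-Q + q - q*Q + q*Q^3)*d by ring)
  · exact (tau_neg q Q _ rfl).trans (show ((q*Q^2)*d) + (Q - 1) * ((q*Q^2)*e) = (q*Q^2)*d + (-q*Q^2 + q*Q^3)*e by ring)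
  · exact (tau_pos q Q _ rfl).trans (show Q * ((q*Q)*d + (-q*Q + q*Q^2)*e) = (q*Q^2)*d + (-q*Q^2 + q*Q^3)*e by ring)
  · exact (tau_neg q Q _ rfl).trans (show (c + (-1 + Q^2)*d + (-Q^2 + q*Q^2)*e) + (Q - 1) * ((q*Q)*d + (-q*Q + q*Q^2)*e) = c + (-1 + Q^2 - q*Q + q*Q^2)*d + (-Q^2 + q*Q - q*Q^2 + q*Q^3)*e by ring)
  · exact (tau_zer q Q _ rfl).trans (show Q * ((q*Q)*d + (-q*Q + q*Q^2)*e) = (q*Q^2)*d + (-q*Q^2 + q*Q^3)*e by ring)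

theorem stage4 : tau sg ep (par q Q) 0 (G2 q Q a b c d e) = G4 q Q a b c d e := by
  funext k
  fin_cases k
  · exact (tau_zer q Q _ rfl).trans (show q * ((q*Q^2)*b) = (q^2*Q^2)*b by ring)
  · exact (tau_zer q Q _ rfl).trans (show q * ((q*Q^2)*b) = (q^2*Q^2)*b by ring)
  · exact (tau_zer q Q _ rfl).trans (show q * ((q*Q^2)*c) = (q^2*Q^2)*c by ring)
  · exact (tau_pos q Q _ rfl).trans (show q * ((q*Q^2)*c) = (q^2*Q^2)*c by ring)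
  · exact (tau_neg q Q _ rfl).trans (show (a + (-1 + Q^2)*b + (-Q^2 + q*Q^2)*c) + (q - 1) * ((q*Q^2)*c) = a + (-1 + Q^2)*b + (-Q^2 + q^2*Q^2)*c by ring)
  · exact (tau_pos q Q _ rfl).trans (show q * ((q*Q^2)*d) = (q^2*Q^2)*d by ring)
  · exact (tau_neg q Q _ rfl).trans (show ((q*Q)*b + (-q*Q + q*Q^2)*c) + (q - 1) * ((q*Q^2)*d) = (q*Q)*b + (-q*Q + q*Q^2)*c + (-q*Q^2 + q^2*Q^2)*d by ring)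
  · exact (tau_pos q Q _ rfl).trans (show q * ((q*Q^2)*d) = (q^2*Q^2)*d by ring)
  · exact (tau_zer q Q _ rfl).trans (show q * ((Q)*b + (-Q + Q^2)*c + (-Q^2 + q*Q^2)*d) = (q*Q)*b + (-q*Q + q*Q^2)*c + (-q*Q^2 + q^2*Q^2)*d by ring)
  · exact (tau_neg q Q _ rfl).trans (show ((q*Q)*b + (-q*Q + q*Q^2)*c) + (q - 1) * ((q*Q^2)*d) = (q*Q)*b + (-q*Q + q*Q^2)*c + (-q*Q^2 + q^2*Q^2)*d by ring)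
  · exact (tau_zer q Q _ rfl).trans (show q * ((q*Q)*c + (-q*Q + q*Q^2)*d) = (q^2*Q)*c + (-q^2*Q + q^2*Q^2)*d by ring)
  · exact (tau_zer q Q _ rfl).trans (show q * ((Q)*b + (-Q + Q^2)*c + (-Q^2 + q*Q^2)*d) = (q*Q)*b + (-q*Q + q*Q^2)*c + (-q*Q^2 + q^2*Q^2)*d by ring)
  · exact (tau_zer q Q _ rfl).trans (show q * ((q*Q)*c + (-q*Q + q*Q^2)*d) = (q^2*Q)*c + (-q^2*Q + q^2*Q^2)*d by ring)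
  · exact (tau_zer q Q _ rfl).trans (show q * ((q*Q^2)*d) = (q^2*Q^2)*d by ring)
  · exact (tau_zer q Q _ rfl).trans (show q * ((q*Q^2)*d) = (q^2*Q^2)*d by ring)
  · exact (tau_pos q Q _ rfl).trans (show q * ((q*Q^2)*d) = (q^2*Q^2)*d by ring)
  · exact (tau_pos q Q _ rfl).trans (show q * ((q*Q^2)*d) = (q^2*Q^2)*d by ring)
  · exact (tau_neg q Q _ rfl).trans (show (b + (-1 + Q)*c + (-Q + q*Q^2)*d) + (q - 1) * ((q*Q^2)*d) = b + (-1 + Q)*c + (-Q + q^2*Q^2)*d by ring)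
  · exact (tau_neg q Q _ rfl).trans (show (b + (-1 + Q)*c + (-Q + q*Q^2)*d) + (q - 1) * ((q*Q^2)*d) = b + (-1 + Q)*c + (-Q + q^2*Q^2)*d by ring)
  · exact (tau_pos q Q _ rfl).trans (show q * ((q*Q^2)*e) = (q^2*Q^2)*e by ring)
  · exact (tau_neg q Q _ rfl).trans (show ((q)*c + (-q + q*Q^2)*d) + (q - 1) * ((q*Q^2)*e) = (q)*c + (-q + q*Q^2)*d + (-q*Q^2 + q^2*Q^2)*e by ring)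
  · exact (tau_zer q Q _ rfl).trans (show q * (c + (-1 + Q^2)*d + (-Q^2 + q*Q^2)*e) = (q)*c + (-q + q*Q^2)*d + (-q*Q^2 + q^2*Q^2)*e by ring)
  · exact (tau_zer q Q _ rfl).trans (show q * ((q*Q)*d + (-q*Q + q*Q^2)*e) = (q^2*Q)*d + (-q^2*Q + q^2*Q^2)*e by ring)
  · exact (tau_zer q Q _ rfl).trans (show q * ((q*Q)*d + (-q*Q + q*Q^2)*e) = (q^2*Q)*d + (-q^2*Q + q^2*Q^2)*e by ring)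

theorem stage5 : tau sg ep (par q Q) 0 (G3 q Q a b c d e) = G5 q Q a b c d e := by
  funext k
  fin_cases k
  · exact (tau_zer q Q _ rfl).trans (show q * ((q*Q^3)*b) = (q^2*Q^3)*b by ring)
  · exact (tau_zer q Q _ rfl).trans (show q * ((q*Q^3)*c) = (q^2*Q^3)*c by ring)
  · exact (tau_zer q Q _ rfl).trans (show q * ((q*Q^2)*b + (-q*Q^2 + q*Q^3)*c) = (q^2*Q^2)*b + (-q^2*Q^2 + q^2*Q^3)*c by ring)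
  · exact (tau_pos q Q _ rfl).trans (show q * ((q*Q^3)*d) = (q^2*Q^3)*d by ring)
  · exact (tau_neg q Q _ rfl).trans (show ((q*Q^2)*b + (-q*Q^2 + q*Q^3)*c) + (q - 1) * ((q*Q^3)*d) = (q*Q^2)*b + (-q*Q^2 + q*Q^3)*c + (-q*Q^3 + q^2*Q^3)*d by ring)
  · exact (tau_pos q Q _ rfl).trans (show q * ((q*Q^2)*c + (-q*Q^2 + q*Q^3)*d) = (q^2*Q^2)*c + (-q^2*Q^2 + q^2*Q^3)*d by ring)
  · exact (tau_neg q Q _ rfl).trans (show (a + (-1 + Q^2 - q*Q + q*Q^2)*b + (-Q^2 + q*Q - q*Q^2 + q*Q^3)*c) + (q - 1) * ((q*Q^2)*c + (-q*Q^2 + q*Q^3)*d) = a + (-1 + Q^2 - q*Q + q*Q^2)*b + (-Q^2 + q*Q - 2*q*Q^2 + q*Q^3 + q^2*Q^2)*c + (q*Q^2 - q*Q^3 - q^2*Q^2 + q^2*Q^3)*d by ring)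
  · exact (tau_pos q Q _ rfl).trans (show q * ((q*Q^3)*d) = (q^2*Q^3)*d by ring)
  · exact (tau_zer q Q _ rfl).trans (show q * ((q*Q^2)*c + (-q*Q^2 + q*Q^3)*d) = (q^2*Q^2)*c + (-q^2*Q^2 + q^2*Q^3)*d by ring)
  · exact (tau_neg q Q _ rfl).trans (show ((q*Q^2)*b + (-q*Q^2 + q*Q^3)*c) + (q - 1) * ((q*Q^3)*d) = (q*Q^2)*b + (-q*Q^2 + q*Q^3)*c + (-q*Q^3 + q^2*Q^3)*d by ring)
  · exact (tau_zer q Q _ rfl).trans (show q * ((Q)*b + (-Q + Q^2 - q*Q + q*Q^2)*c + (-Q^2 + q*Q - q*Q^2 + q*Q^3)*d) = (q*Q)*b + (-q*Q + q*Q^2 - q^2*Q + q^2*Q^2)*c + (-q*Q^2 + q^2*Q - q^2*Q^2 + q^2*Q^3)*d by ring)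
  · exact (tau_zer q Q _ rfl).trans (show q * ((q*Q^3)*d) = (q^2*Q^3)*d by ring)
  · exact (tau_zer q Q _ rfl).trans (show q * ((q*Q^3)*d) = (q^2*Q^3)*d by ring)
  · exact (tau_zer q Q _ rfl).trans (show q * ((Q)*b + (-Q + Q^2)*c + (-Q^2 + q*Q^3)*d) = (q*Q)*b + (-q*Q + q*Q^2)*c + (-q*Q^2 + q^2*Q^3)*d by ring)
  · exact (tau_zer q Q _ rfl).trans (show q * ((q*Q)*c + (-q*Q + q*Q^3)*d) = (q^2*Q)*c + (-q^2*Q + q^2*Q^3)*d by ring)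
  · exact (tau_pos q Q _ rfl).trans (show q * ((q*Q^3)*d) = (q^2*Q^3)*d by ring)
  · exact (tau_pos q Q _ rfl).trans (show q * ((q*Q^3)*e) = (q^2*Q^3)*e by ring)
  · exact (tau_neg q Q _ rfl).trans (show ((Q)*b + (-Q + Q^2)*c + (-Q^2 + q*Q^3)*d) + (q - 1) * ((q*Q^3)*d) = (Q)*b + (-Q + Q^2)*c + (-Q^2 + q^2*Q^3)*d by ring)
  · exact (tau_neg q Q _ rfl).trans (show ((q*Q)*c + (-q*Q + q*Q^3)*d) + (q - 1) * ((q*Q^3)*e) = (q*Q)*c + (-q*Q + q*Q^3)*d + (-q*Q^3 + q^2*Q^3)*e by ring)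
  · exact (tau_pos q Q _ rfl).trans (show q * ((q*Q^2)*d + (-q*Q^2 + q*Q^3)*e) = (q^2*Q^2)*d + (-q^2*Q^2 + q^2*Q^3)*e by ring)
  · exact (tau_neg q Q _ rfl).trans (show (b + (-1 + Q - q + q*Q)*c + (-Q + q - q*Q + q*Q^3)*d) + (q - 1) * ((q*Q^2)*d + (-q*Q^2 + q*Q^3)*e) = b + (-1 + Q - q + q*Q)*c + (-Q + q - q*Q - q*Q^2 + q*Q^3 + q^2*Q^2)*d + (q*Q^2 - q*Q^3 - q^2*Q^2 + q^2*Q^3)*e by ring)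
  · exact (tau_zer q Q _ rfl).trans (show q * ((q*Q^2)*d + (-q*Q^2 + q*Q^3)*e) = (q^2*Q^2)*d + (-q^2*Q^2 + q^2*Q^3)*e by ring)
  · exact (tau_zer q Q _ rfl).trans (show q * (c + (-1 + Q^2 - q*Q + q*Q^2)*d + (-Q^2 + q*Q - q*Q^2 + q*Q^3)*e) = (q)*c + (-q + q*Q^2 - q^2*Q + q^2*Q^2)*d + (-q*Q^2 + q^2*Q - q^2*Q^2 + q^2*Q^3)*e by ring)
  · exact (tau_zer q Q _ rfl).trans (show q * ((q*Q^2)*d + (-q*Q^2 + q*Q^3)*e) = (q^2*Q^2)*d + (-q^2*Q^2 + q^2*Q^3)*e by ring)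

theorem stage6 : tau sg ep (par q Q) 1 (G5 q Q a b c d e) = G6 q Q a b c d e := by
  funext k
  fin_cases k
  · exact (tau_zer q Q _ rfl).trans (show q * ((q^2*Q^3)*b) = (q^3*Q^3)*b by ring)
  · exact (tau_zer q Q _ rfl).trans (show q * ((q^2*Q^3)*c) = (q^3*Q^3)*c by ring)
  · exact (tau_pos q Q _ rfl).trans (show q * ((q^2*Q^3)*d) = (q^3*Q^3)*d by ring)
  · exact (tau_neg q Q _ rfl).trans (show ((q^2*Q^2)*b + (-q^2*Q^2 + q^2*Q^3)*c) + (q - 1) * ((q^2*Q^3)*d) = (q^2*Q^2)*b + (-q^2*Q^2 + q^2*Q^3)*c + (-q^2*Q^3 + q^3*Q^3)*d by ring)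
  · exact (tau_zer q Q _ rfl).trans (show q * ((q*Q^2)*b + (-q*Q^2 + q*Q^3)*c + (-q*Q^3 + q^2*Q^3)*d) = (q^2*Q^2)*b + (-q^2*Q^2 + q^2*Q^3)*c + (-q^2*Q^3 + q^3*Q^3)*d by ring)
  · exact (tau_zer q Q _ rfl).trans (show q * ((q^2*Q^2)*c + (-q^2*Q^2 + q^2*Q^3)*d) = (q^3*Q^2)*c + (-q^3*Q^2 + q^3*Q^3)*d by ring)
  · exact (tau_pos q Q _ rfl).trans (show q * ((q^2*Q^2)*c + (-q^2*Q^2 + q^2*Q^3)*d) = (q^3*Q^2)*c + (-q^3*Q^2 + q^3*Q^3)*d by ring)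
  · exact (tau_zer q Q _ rfl).trans (show q * ((q^2*Q^3)*d) = (q^3*Q^3)*d by ring)
  · exact (tau_neg q Q _ rfl).trans (show (a + (-1 + Q^2 - q*Q + q*Q^2)*b + (-Q^2 + q*Q - 2*q*Q^2 + q*Q^3 + q^2*Q^2)*c + (q*Q^2 - q*Q^3 - q^2*Q^2 + q^2*Q^3)*d) + (q - 1) * ((q^2*Q^2)*c + (-q^2*Q^2 + q^2*Q^3)*d) = a + (-1 + Q^2 - q*Q + q*Q^2)*b + (-Q^2 + q*Q - 2*q*Q^2 + q*Q^3 + q^3*Q^2)*c + (q*Q^2 - q*Q^3 - q^3*Q^2 + q^3*Q^3)*d by ring)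
  · exact (tau_pos q Q _ rfl).trans (show q * ((q^2*Q^3)*d) = (q^3*Q^3)*d by ring)
  · exact (tau_zer q Q _ rfl).trans (show q * ((q*Q)*b + (-q*Q + q*Q^2 - q^2*Q + q^2*Q^2)*c + (-q*Q^2 + q^2*Q - q^2*Q^2 + q^2*Q^3)*d) = (q^2*Q)*b + (-q^2*Q + q^2*Q^2 - q^3*Q + q^3*Q^2)*c + (-q^2*Q^2 + q^3*Q - q^3*Q^2 + q^3*Q^3)*d by ring)
  · exact (tau_neg q Q _ rfl).trans (show ((q*Q^2)*b + (-q*Q^2 + q*Q^3)*c + (-q*Q^3 + q^2*Q^3)*d) + (q - 1) * ((q^2*Q^3)*d) = (q*Q^2)*b + (-q*Q^2 + q*Q^3)*c + (-q*Q^3 + q^3*Q^3)*d by ring)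
  · exact (tau_zer q Q _ rfl).trans (show q * ((q^2*Q^3)*d) = (q^3*Q^3)*d by ring)
  · exact (tau_pos q Q _ rfl).trans (show q * ((q^2*Q^3)*d) = (q^3*Q^3)*d by ring)
  · exact (tau_pos q Q _ rfl).trans (show q * ((q^2*Q^3)*e) = (q^3*Q^3)*e by ring)
  · exact (tau_neg q Q _ rfl).trans (show ((q*Q)*b + (-q*Q + q*Q^2)*c + (-q*Q^2 + q^2*Q^3)*d) + (q - 1) * ((q^2*Q^3)*d) = (q*Q)*b + (-q*Q + q*Q^2)*c + (-q*Q^2 + q^3*Q^3)*d by ring)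
  · exact (tau_neg q Q _ rfl).trans (show ((q^2*Q)*c + (-q^2*Q + q^2*Q^3)*d) + (q - 1) * ((q^2*Q^3)*e) = (q^2*Q)*c + (-q^2*Q + q^2*Q^3)*d + (-q^2*Q^3 + q^3*Q^3)*e by ring)
  · exact (tau_zer q Q _ rfl).trans (show q * ((Q)*b + (-Q + Q^2)*c + (-Q^2 + q^2*Q^3)*d) = (q*Q)*b + (-q*Q + q*Q^2)*c + (-q*Q^2 + q^3*Q^3)*d by ring)
  · exact (tau_zer q Q _ rfl).trans (show q * ((q*Q)*c + (-q*Q + q*Q^3)*d + (-q*Q^3 + q^2*Q^3)*e) = (q^2*Q)*c + (-q^2*Q + q^2*Q^3)*d + (-q^2*Q^3 + q^3*Q^3)*e by ring)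
  · exact (tau_zer q Q _ rfl).trans (show q * ((q^2*Q^2)*d + (-q^2*Q^2 + q^2*Q^3)*e) = (q^3*Q^2)*d + (-q^3*Q^2 + q^3*Q^3)*e by ring)
  · exact (tau_pos q Q _ rfl).trans (show q * ((q^2*Q^2)*d + (-q^2*Q^2 + q^2*Q^3)*e) = (q^3*Q^2)*d + (-q^3*Q^2 + q^3*Q^3)*e by ring)
  · exact (tau_neg q Q _ rfl).trans (show (b + (-1 + Q - q + q*Q)*c + (-Q + q - q*Q - q*Q^2 + q*Q^3 + q^2*Q^2)*d + (q*Q^2 - q*Q^3 - q^2*Q^2 + q^2*Q^3)*e) + (q - 1) * ((q^2*Q^2)*d + (-q^2*Q^2 + q^2*Q^3)*e) = b + (-1 + Q - q + q*Q)*c + (-Q + q - q*Q - q*Q^2 + q*Q^3 + q^3*Q^2)*d + (q*Q^2 - q*Q^3 - q^3*Q^2 + q^3*Q^3)*e by ring)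
  · exact (tau_zer q Q _ rfl).trans (show q * ((q)*c + (-q + q*Q^2 - q^2*Q + q^2*Q^2)*d + (-q*Q^2 + q^2*Q - q^2*Q^2 + q^2*Q^3)*e) = (q^2)*c + (-q^2 + q^2*Q^2 - q^3*Q + q^3*Q^2)*d + (-q^2*Q^2 + q^3*Q - q^3*Q^2 + q^3*Q^3)*e by ring)
  · exact (tau_zer q Q _ rfl).trans (show q * ((q^2*Q^2)*d + (-q^2*Q^2 + q^2*Q^3)*e) = (q^3*Q^2)*d + (-q^3*Q^2 + q^3*Q^3)*e by ring)

theorem stage7 : tau sg ep (par q Q) 2 (G6 q Q a b c d e) = G7 q Q a b c d e := by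
  funext k
  fin_cases k
  · exact (tau_zer q Q _ rfl).trans (show Q * ((q^3*Q^3)*b) = (q^3*Q^4)*b by ring)
  · exact (tau_pos q Q _ rfl).trans (show Q * ((q^3*Q^3)*d) = (q^3*Q^4)*d by ring)
  · exact (tau_neg q Q _ rfl).trans (show ((q^3*Q^3)*c) + (Q - 1) * ((q^3*Q^3)*d) = (q^3*Q^3)*c + (-q^3*Q^3 + q^3*Q^4)*d by ring)
  · exact (tau_pos q Q _ rfl).trans (show Q * ((q^3*Q^2)*c + (-q^3*Q^2 + q^3*Q^3)*d) = (q^3*Q^3)*c + (-q^3*Q^3 + q^3*Q^4)*d by ring)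
  · exact (tau_pos q Q _ rfl).trans (show Q * ((q^3*Q^2)*c + (-q^3*Q^2 + q^3*Q^3)*d) = (q^3*Q^3)*c + (-q^3*Q^3 + q^3*Q^4)*d by ring)
  · exact (tau_neg q Q _ rfl).trans (show ((q^2*Q^2)*b + (-q^2*Q^2 + q^2*Q^3)*c + (-q^2*Q^3 + q^3*Q^3)*d) + (Q - 1) * ((q^3*Q^2)*c + (-q^3*Q^2 + q^3*Q^3)*d) = (q^2*Q^2)*b + (-q^2*Q^2 + q^2*Q^3 - q^3*Q^2 + q^3*Q^3)*c + (-q^2*Q^3 + q^3*Q^2 - q^3*Q^3 + q^3*Q^4)*d by ring)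
  · exact (tau_neg q Q _ rfl).trans (show ((q^2*Q^2)*b + (-q^2*Q^2 + q^2*Q^3)*c + (-q^2*Q^3 + q^3*Q^3)*d) + (Q - 1) * ((q^3*Q^2)*c + (-q^3*Q^2 + q^3*Q^3)*d) = (q^2*Q^2)*b + (-q^2*Q^2 + q^2*Q^3 - q^3*Q^2 + q^3*Q^3)*c + (-q^2*Q^3 + q^3*Q^2 - q^3*Q^3 + q^3*Q^4)*d by ring)
  · exact (tau_zer q Q _ rfl).trans (show Q * ((q^3*Q^3)*d) = (q^3*Q^4)*d by ring)
  · exact (tau_pos q Q _ rfl).trans (show Q * ((q^2*Q)*b + (-q^2*Q + q^2*Q^2 - q^3*Q + q^3*Q^2)*c + (-q^2*Q^2 + q^3*Q - q^3*Q^2 + q^3*Q^3)*d) = (q^2*Q^2)*b + (-q^2*Q^2 + q^2*Q^3 - q^3*Q^2 + q^3*Q^3)*c + (-q^2*Q^3 + q^3*Q^2 - q^3*Q^3 + q^3*Q^4)*d by ring)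
  · exact (tau_zer q Q _ rfl).trans (show Q * ((q^3*Q^3)*d) = (q^3*Q^4)*d by ring)
  · exact (tau_neg q Q _ rfl).trans (show (a + (-1 + Q^2 - q*Q + q*Q^2)*b + (-Q^2 + q*Q - 2*q*Q^2 + q*Q^3 + q^3*Q^2)*c + (q*Q^2 - q*Q^3 - q^3*Q^2 + q^3*Q^3)*d) + (Q - 1) * ((q^2*Q)*b + (-q^2*Q + q^2*Q^2 - q^3*Q + q^3*Q^2)*c + (-q^2*Q^2 + q^3*Q - q^3*Q^2 + q^3*Q^3)*d) = a + (-1 + Q^2 - q*Q + q*Q^2 - q^2*Q + q^2*Q^2)*b + (-Q^2 + q*Q - 2*q*Q^2 + q*Q^3 + q^2*Q - 2*q^2*Q^2 + q^2*Q^3 + q^3*Q - q^3*Q^2 + q^3*Q^3)*c + (q*Q^2 - q*Q^3 + q^2*Q^2 - q^2*Q^3 - q^3*Q + q^3*Q^2 - q^3*Q^3 + q^3*Q^4)*d by ring)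
  · exact (tau_pos q Q _ rfl).trans (show Q * ((q^3*Q^3)*d) = (q^3*Q^4)*d by ring)
  · exact (tau_pos q Q _ rfl).trans (show Q * ((q^3*Q^3)*e) = (q^3*Q^4)*e by ring)
  · exact (tau_neg q Q _ rfl).trans (show ((q*Q^2)*b + (-q*Q^2 + q*Q^3)*c + (-q*Q^3 + q^3*Q^3)*d) + (Q - 1) * ((q^3*Q^3)*d) = (q*Q^2)*b + (-q*Q^2 + q*Q^3)*c + (-q*Q^3 + q^3*Q^4)*d by ring)
  · exact (tau_neg q Q _ rfl).trans (show ((q^3*Q^3)*d) + (Q - 1) * ((q^3*Q^3)*e) = (q^3*Q^3)*d + (-q^3*Q^3 + q^3*Q^4)*e by ring)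
  · exact (tau_zer q Q _ rfl).trans (show Q * ((q*Q)*b + (-q*Q + q*Q^2)*c + (-q*Q^2 + q^3*Q^3)*d) = (q*Q^2)*b + (-q*Q^2 + q*Q^3)*c + (-q*Q^3 + q^3*Q^4)*d by ring)
  · exact (tau_pos q Q _ rfl).trans (show Q * ((q^3*Q^2)*d + (-q^3*Q^2 + q^3*Q^3)*e) = (q^3*Q^3)*d + (-q^3*Q^3 + q^3*Q^4)*e by ring)
  · exact (tau_zer q Q _ rfl).trans (show Q * ((q*Q)*b + (-q*Q + q*Q^2)*c + (-q*Q^2 + q^3*Q^3)*d) = (q*Q^2)*b + (-q*Q^2 + q*Q^3)*c + (-q*Q^3 + q^3*Q^4)*d by ring)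
  · exact (tau_pos q Q _ rfl).trans (show Q * ((q^3*Q^2)*d + (-q^3*Q^2 + q^3*Q^3)*e) = (q^3*Q^3)*d + (-q^3*Q^3 + q^3*Q^4)*e by ring)
  · exact (tau_neg q Q _ rfl).trans (show ((q^2*Q)*c + (-q^2*Q + q^2*Q^3)*d + (-q^2*Q^3 + q^3*Q^3)*e) + (Q - 1) * ((q^3*Q^2)*d + (-q^3*Q^2 + q^3*Q^3)*e) = (q^2*Q)*c + (-q^2*Q + q^2*Q^3 - q^3*Q^2 + q^3*Q^3)*d + (-q^2*Q^3 + q^3*Q^2 - q^3*Q^3 + q^3*Q^4)*e by ring)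
  · exact (tau_neg q Q _ rfl).trans (show ((q^2*Q)*c + (-q^2*Q + q^2*Q^3)*d + (-q^2*Q^3 + q^3*Q^3)*e) + (Q - 1) * ((q^3*Q^2)*d + (-q^3*Q^2 + q^3*Q^3)*e) = (q^2*Q)*c + (-q^2*Q + q^2*Q^3 - q^3*Q^2 + q^3*Q^3)*d + (-q^2*Q^3 + q^3*Q^2 - q^3*Q^3 + q^3*Q^4)*e by ring)
  · exact (tau_pos q Q _ rfl).trans (show Q * ((q^2)*c + (-q^2 + q^2*Q^2 - q^3*Q + q^3*Q^2)*d + (-q^2*Q^2 + q^3*Q - q^3*Q^2 + q^3*Q^3)*e) = (q^2*Q)*c + (-q^2*Q + q^2*Q^3 - q^3*Q^2 + q^3*Q^3)*d + (-q^2*Q^3 + q^3*Q^2 - q^3*Q^3 + q^3*Q^4)*e by ring)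
  · exact (tau_neg q Q _ rfl).trans (show (b + (-1 + Q - q + q*Q)*c + (-Q + q - q*Q - q*Q^2 + q*Q^3 + q^3*Q^2)*d + (q*Q^2 - q*Q^3 - q^3*Q^2 + q^3*Q^3)*e) + (Q - 1) * ((q^2)*c + (-q^2 + q^2*Q^2 - q^3*Q + q^3*Q^2)*d + (-q^2*Q^2 + q^3*Q - q^3*Q^2 + q^3*Q^3)*e) = b + (-1 + Q - q + q*Q - q^2 + q^2*Q)*c + (-Q + q - q*Q - q*Q^2 + q*Q^3 + q^2 - q^2*Q - q^2*Q^2 + q^2*Q^3 + q^3*Q - q^3*Q^2 + q^3*Q^3)*d + (q*Q^2 - q*Q^3 + q^2*Q^2 - q^2*Q^3 - q^3*Q + q^3*Q^2 - q^3*Q^3 + q^3*Q^4)*e by ring)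
  · exact (tau_zer q Q _ rfl).trans (show Q * ((q^3*Q^2)*d + (-q^3*Q^2 + q^3*Q^3)*e) = (q^3*Q^3)*d + (-q^3*Q^3 + q^3*Q^4)*e by ring)

theorem stageS (k : Fin 24) : G0 q Q a b c d e k + G1 q Q a b c d e k + G2 q Q a b c d e k + G3 q Q a b c d e k + G4 q Q a b c d e k + G5 q Q a b c d e k + G6 q Q a b c d e k + G7 q Q a b c d e k = S q Q a b c d e k := by
  fin_cases k
  · show ((Q)*b) + ((Q^2)*b) + ((q*Q^2)*b) + ((q*Q^3)*b) + ((q^2*Q^2)*b) + ((q^2*Q^3)*b) + ((q^3*Q^3)*b) + ((q^3*Q^4)*b) = (Q + Q^2 + q*Q^2 + q*Q^3 + q^2*Q^2 + q^2*Q^3 + q^3*Q^3 + q^3*Q^4)*b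
    ring
  · show (a + (-1 + Q)*b) + ((Q^2)*b) + ((q*Q^2)*b) + ((q*Q^3)*c) + ((q^2*Q^2)*b) + ((q^2*Q^3)*c) + ((q^3*Q^3)*c) + ((q^3*Q^4)*d) = a + (-1 + Q + Q^2 + q*Q^2 + q^2*Q^2)*b + (q*Q^3 + q^2*Q^3 + q^3*Q^3)*c + (q^3*Q^4)*d
    ring
  · show ((Q)*b) + (a + (-1 + Q^2)*b) + ((q*Q^2)*c) + ((q*Q^2)*b + (-q*Q^2 + q*Q^3)*c) + ((q^2*Q^2)*c) + ((q^2*Q^2)*b + (-q^2*Q^2 + q^2*Q^3)*c) + ((q^3*Q^3)*d) + ((q^3*Q^3)*c + (-q^3*Q^3 + q^3*Q^4)*d) = a + (-1 + Q + Q^2 + q*Q^2 + q^2*Q^2)*b + (q*Q^3 + q^2*Q^3 + q^3*Q^3)*c + (q^3*Q^4)*d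
    ring
  · show ((Q)*b) + ((Q^2)*c) + (a + (-1 + Q^2)*b + (-Q^2 + q*Q^2)*c) + ((q*Q^2)*b + (-q*Q^2 + q*Q^3)*c) + ((q^2*Q^2)*c) + ((q^2*Q^3)*d) + ((q^2*Q^2)*b + (-q^2*Q^2 + q^2*Q^3)*c + (-q^2*Q^3 + q^3*Q^3)*d) + ((q^3*Q^3)*c + (-q^3*Q^3 + q^3*Q^4)*d) = a + (-1 + Q + Q^2 + q*Q^2 + q^2*Q^2)*b + (q*Q^3 + q^2*Q^3 + q^3*Q^3)*c + (q^3*Q^4)*d
    ring
  · show ((Q)*b) + ((Q^2)*c) + ((q*Q^2)*c) + ((q*Q^3)*d) + (a + (-1 + Q^2)*b + (-Q^2 + q^2*Q^2)*c) + ((q*Q^2)*b + (-q*Q^2 + q*Q^3)*c + (-q*Q^3 + q^2*Q^3)*d) + ((q^2*Q^2)*b + (-q^2*Q^2 + q^2*Q^3)*c + (-q^2*Q^3 + q^3*Q^3)*d) + ((q^3*Q^3)*c + (-q^3*Q^3 + q^3*Q^4)*d) = a + (-1 + Q + Q^2 + q*Q^2 + q^2*Q^2)*b + (q*Q^3 + q^2*Q^3 + q^3*Q^3)*c + (q^3*Q^4)*d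
    ring
  · show ((Q)*c) + ((Q)*b + (-Q + Q^2)*c) + ((q*Q)*b + (-q*Q + q*Q^2)*c) + (a + (-1 + Q^2 - q*Q + q*Q^2)*b + (-Q^2 + q*Q - q*Q^2 + q*Q^3)*c) + ((q^2*Q^2)*d) + ((q^2*Q^2)*c + (-q^2*Q^2 + q^2*Q^3)*d) + ((q^3*Q^2)*c + (-q^3*Q^2 + q^3*Q^3)*d) + ((q^2*Q^2)*b + (-q^2*Q^2 + q^2*Q^3 - q^3*Q^2 + q^3*Q^3)*c + (-q^2*Q^3 + q^3*Q^2 - q^3*Q^3 + q^3*Q^4)*d) = a + (-1 + Q + Q^2 + q*Q^2 + q^2*Q^2)*b + (q*Q^3 + q^2*Q^3 + q^3*Q^3)*c + (q^3*Q^4)*d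
    ring
  · show ((Q)*c) + ((Q)*b + (-Q + Q^2)*c) + ((q*Q^2)*d) + ((q*Q^2)*c + (-q*Q^2 + q*Q^3)*d) + ((q*Q)*b + (-q*Q + q*Q^2)*c + (-q*Q^2 + q^2*Q^2)*d) + (a + (-1 + Q^2 - q*Q + q*Q^2)*b + (-Q^2 + q*Q - 2*q*Q^2 + q*Q^3 + q^2*Q^2)*c + (q*Q^2 - q*Q^3 - q^2*Q^2 + q^2*Q^3)*d) + ((q^3*Q^2)*c + (-q^3*Q^2 + q^3*Q^3)*d) + ((q^2*Q^2)*b + (-q^2*Q^2 + q^2*Q^3 - q^3*Q^2 + q^3*Q^3)*c + (-q^2*Q^3 + q^3*Q^2 - q^3*Q^3 + q^3*Q^4)*d) = a + (-1 + Q + Q^2 + q*Q^2 + q^2*Q^2)*b + (q*Q^3 + q^2*Q^3 + q^3*Q^3)*c + (q^3*Q^4)*d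
    ring
  · show (b + (-1 + Q)*c) + ((Q)*b + (-Q + Q^2)*c) + ((q*Q)*b + (-q*Q + q*Q^2)*c) + ((q*Q^2)*b + (-q*Q^2 + q*Q^3)*c) + ((q^2*Q^2)*d) + ((q^2*Q^3)*d) + ((q^3*Q^3)*d) + ((q^3*Q^4)*d) = (1 + Q + q*Q + q*Q^2)*b + (-1 + Q^2 - q*Q + q*Q^3)*c + (q^2*Q^2 + q^2*Q^3 + q^3*Q^3 + q^3*Q^4)*d
    ring
  · show ((Q)*c) + ((Q^2)*d) + ((Q)*b + (-Q + Q^2)*c + (-Q^2 + q*Q^2)*d) + ((q*Q^2)*c + (-q*Q^2 + q*Q^3)*d) + ((q*Q)*b + (-q*Q + q*Q^2)*c + (-q*Q^2 + q^2*Q^2)*d) + ((q^2*Q^2)*c + (-q^2*Q^2 + q^2*Q^3)*d) + (a + (-1 + Q^2 - q*Q + q*Q^2)*b + (-Q^2 + q*Q - 2*q*Q^2 + q*Q^3 + q^3*Q^2)*c + (q*Q^2 - q*Q^3 - q^3*Q^2 + q^3*Q^3)*d) + ((q^2*Q^2)*b + (-q^2*Q^2 + q^2*Q^3 - q^3*Q^2 + q^3*Q^3)*c + (-q^2*Q^3 + q^3*Q^2 - q^3*Q^3 + q^3*Q^4)*d) = a + (-1 + Q + Q^2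 + q*Q^2 + q^2*Q^2)*b + (q*Q^3 + q^2*Q^3 + q^3*Q^3)*c + (q^3*Q^4)*d
    ring
  · show (b + (-1 + Q)*c) + ((Q)*b + (-Q + Q^2)*c) + ((q*Q^2)*d) + ((q*Q^3)*d) + ((q*Q)*b + (-q*Q + q*Q^2)*c + (-q*Q^2 + q^2*Q^2)*d) + ((q*Q^2)*b + (-q*Q^2 + q*Q^3)*c + (-q*Q^3 + q^2*Q^3)*d) + ((q^3*Q^3)*d) + ((q^3*Q^4)*d) = (1 + Q + q*Q + q*Q^2)*b + (-1 + Q^2 - q*Q + q*Q^3)*c + (q^2*Q^2 + q^2*Q^3 + q^3*Q^3 + q^3*Q^4)*d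
    ring
  · show ((Q)*d) + ((Q)*c + (-Q + Q^2)*d) + ((q*Q)*c + (-q*Q + q*Q^2)*d) + ((Q)*b + (-Q + Q^2 - q*Q + q*Q^2)*c + (-Q^2 + q*Q - q*Q^2 + q*Q^3)*d) + ((q^2*Q)*c + (-q^2*Q + q^2*Q^2)*d) + ((q*Q)*b + (-q*Q + q*Q^2 - q^2*Q + q^2*Q^2)*c + (-q*Q^2 + q^2*Q - q^2*Q^2 + q^2*Q^3)*d) + ((q^2*Q)*b + (-q^2*Q + q^2*Q^2 - q^3*Q + q^3*Q^2)*c + (-q^2*Q^2 + q^3*Q - q^3*Q^2 + q^3*Q^3)*d) + (a + (-1 + Q^2 - q*Q + q*Q^2 - q^2*Q + q^2*Q^2)*b + (-Q^2 + q*Q - 2*q*Q^2 + q*Q^3 + q^2*Q - 2*q^2*Q^2 + q^2*Q^3 + q^3*Q - q^3*Q^2 + q^3*Q^3)*c + (q*Q^2 - q*Q^3 + q^2*Q^2 - q^2*Q^3 - q^3*Q + q^3*Q^2 - q^3*Q^3 + q^3*Q^4)*d) = a + (-1 + Q + Q^2 + q*Q^2 + q^2*Q^2)*b + (q*Q^3 + q^2*Q^3 + q^3*Q^3)*c + (q^3*Q^4)*d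
    ring
  · show (b + (-1 + Q)*c) + ((Q^2)*d) + ((Q)*b + (-Q + Q^2)*c + (-Q^2 + q*Q^2)*d) + ((q*Q^3)*d) + ((q*Q)*b + (-q*Q + q*Q^2)*c + (-q*Q^2 + q^2*Q^2)*d) + ((q^2*Q^3)*d) + ((q*Q^2)*b + (-q*Q^2 + q*Q^3)*c + (-q*Q^3 + q^3*Q^3)*d) + ((q^3*Q^4)*d) = (1 + Q + q*Q + q*Q^2)*b + (-1 + Q^2 - q*Q + q*Q^3)*c + (q^2*Q^2 + q^2*Q^3 + q^3*Q^3 + q^3*Q^4)*d
    ring
  · show (b + (-1 + Q)*d) + ((Q)*c + (-Q + Q^2)*d) + ((q*Q)*c + (-q*Q + q*Q^2)*d) + ((q*Q^3)*d) + ((q^2*Q)*c + (-q^2*Q + q^2*Q^2)*d) + ((q^2*Q^3)*d) + ((q^3*Q^3)*d) + ((q^3*Q^4)*e) = b + (Q + q*Q + q^2*Q)*c + (-1 + Q^2 - q*Q + q*Q^2 + q*Q^3 - q^2*Q + q^2*Q^2 + q^2*Q^3 + q^3*Q^3)*d + (q^3*Q^4)*e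
    ring
  · show ((Q)*d) + (b + (-1 + Q)*c + (-Q + Q^2)*d) + ((q*Q^2)*d) + ((Q)*b + (-Q + Q^2)*c + (-Q^2 + q*Q^3)*d) + ((q^2*Q^2)*d) + ((q*Q)*b + (-q*Q + q*Q^2)*c + (-q*Q^2 + q^2*Q^3)*d) + ((q^3*Q^3)*d) + ((q*Q^2)*b + (-q*Q^2 + q*Q^3)*c + (-q*Q^3 + q^3*Q^4)*d) = (1 + Q + q*Q + q*Q^2)*b + (-1 + Q^2 - q*Q + q*Q^3)*c + (q^2*Q^2 + q^2*Q^3 + q^3*Q^3 + q^3*Q^4)*d
    ring
  · show (c + (-1 + Q)*d) + (b + (-1 + Q)*c + (-Q + Q^2)*d) + ((q*Q^2)*d) + ((q*Q)*c + (-q*Q + q*Q^3)*d) + ((q^2*Q^2)*d) + ((q^2*Q)*c + (-q^2*Q + q^2*Q^3)*d) + ((q^3*Q^3)*e) + ((q^3*Q^3)*d + (-q^3*Q^3 + q^3*Q^4)*e) = b + (Q + q*Q + q^2*Q)*c + (-1 + Q^2 - q*Q + q*Q^2 + q*Q^3 - q^2*Q + q^2*Q^2 + q^2*Q^3 + q^3*Q^3)*d + (q^3*Q^4)*e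
    ring
  · show ((Q)*d) + ((Q^2)*d) + (b + (-1 + Q)*c + (-Q + q*Q^2)*d) + ((Q)*b + (-Q + Q^2)*c + (-Q^2 + q*Q^3)*d) + ((q^2*Q^2)*d) + ((q^2*Q^3)*d) + ((q*Q)*b + (-q*Q + q*Q^2)*c + (-q*Q^2 + q^3*Q^3)*d) + ((q*Q^2)*b + (-q*Q^2 + q*Q^3)*c + (-q*Q^3 + q^3*Q^4)*d) = (1 + Q + q*Q + q*Q^2)*b + (-1 + Q^2 - q*Q + q*Q^3)*c + (q^2*Q^2 + q^2*Q^3 + q^3*Q^3 + q^3*Q^4)*d
    ring
  · show (c + (-1 + Q)*d) + ((Q^2)*d) + (b + (-1 + Q)*c + (-Q + q*Q^2)*d) + ((q*Q)*c + (-q*Q + q*Q^3)*d) + ((q^2*Q^2)*d) + ((q^2*Q^3)*e) + ((q^2*Q)*c + (-q^2*Q + q^2*Q^3)*d + (-q^2*Q^3 + q^3*Q^3)*e) + ((q^3*Q^3)*d + (-q^3*Q^3 + q^3*Q^4)*e) = b + (Q + q*Q + q^2*Q)*c + (-1 + Q^2 - q*Q + q*Q^2 + q*Q^3 - q^2*Q + q^2*Q^2 + q^2*Q^3 + q^3*Q^3)*d + (q^3*Q^4)*e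
    ring
  · show ((Q)*d) + ((Q^2)*d) + ((q*Q^2)*d) + ((q*Q^3)*d) + (b + (-1 + Q)*c + (-Q + q^2*Q^2)*d) + ((Q)*b + (-Q + Q^2)*c + (-Q^2 + q^2*Q^3)*d) + ((q*Q)*b + (-q*Q + q*Q^2)*c + (-q*Q^2 + q^3*Q^3)*d) + ((q*Q^2)*b + (-q*Q^2 + q*Q^3)*c + (-q*Q^3 + q^3*Q^4)*d) = (1 + Q + q*Q + q*Q^2)*b + (-1 + Q^2 - q*Q + q*Q^3)*c + (q^2*Q^2 + q^2*Q^3 + q^3*Q^3 + q^3*Q^4)*d
    ring
  · show (c + (-1 + Q)*d) + ((Q^2)*d) + ((q*Q^2)*d) + ((q*Q^3)*e) + (b + (-1 + Q)*c + (-Q + q^2*Q^2)*d) + ((q*Q)*c + (-q*Q + q*Q^3)*d + (-q*Q^3 + q^2*Q^3)*e) + ((q^2*Q)*c + (-q^2*Q + q^2*Q^3)*d + (-q^2*Q^3 + q^3*Q^3)*e) + ((q^3*Q^3)*d + (-q^3*Q^3 + q^3*Q^4)*e) = b + (Q + q*Q + q^2*Q)*c + (-1 + Q^2 - q*Q + q*Q^2 + q*Q^3 - q^2*Q + q^2*Q^2 + q^2*Q^3 + q^3*Q^3)*d + (q^3*Q^4)*e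
    ring
  · show ((Q)*d) + (c + (-1 + Q^2)*d) + ((q)*c + (-q + q*Q^2)*d) + (b + (-1 + Q - q + q*Q)*c + (-Q + q - q*Q + q*Q^3)*d) + ((q^2*Q^2)*e) + ((q^2*Q^2)*d + (-q^2*Q^2 + q^2*Q^3)*e) + ((q^3*Q^2)*d + (-q^3*Q^2 + q^3*Q^3)*e) + ((q^2*Q)*c + (-q^2*Q + q^2*Q^3 - q^3*Q^2 + q^3*Q^3)*d + (-q^2*Q^3 + q^3*Q^2 - q^3*Q^3 + q^3*Q^4)*e) = b + (Q + q*Q + q^2*Q)*c + (-1 + Q^2 - q*Q + q*Q^2 + q*Q^3 - q^2*Q + q^2*Q^2 + q^2*Q^3 + q^3*Q^3)*d + (q^3*Q^4)*e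
    ring
  · show ((Q)*d) + (c + (-1 + Q^2)*d) + ((q*Q^2)*e) + ((q*Q^2)*d + (-q*Q^2 + q*Q^3)*e) + ((q)*c + (-q + q*Q^2)*d + (-q*Q^2 + q^2*Q^2)*e) + (b + (-1 + Q - q + q*Q)*c + (-Q + q - q*Q - q*Q^2 + q*Q^3 + q^2*Q^2)*d + (q*Q^2 - q*Q^3 - q^2*Q^2 + q^2*Q^3)*e) + ((q^3*Q^2)*d + (-q^3*Q^2 + q^3*Q^3)*e) + ((q^2*Q)*c + (-q^2*Q + q^2*Q^3 - q^3*Q^2 + q^3*Q^3)*d + (-q^2*Q^3 + q^3*Q^2 - q^3*Q^3 + q^3*Q^4)*e) = b + (Q + q*Q + q^2*Q)*c + (-1 + Q^2 - q*Q + q*Q^2 + q*Q^3 - q^2*Q + q^2*Q^2 + q^2*Q^3 + q^3*Q^3)*d + (q^3*Q^4)*e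
    ring
  · show ((Q)*d) + ((Q^2)*e) + (c + (-1 + Q^2)*d + (-Q^2 + q*Q^2)*e) + ((q*Q^2)*d + (-q*Q^2 + q*Q^3)*e) + ((q)*c + (-q + q*Q^2)*d + (-q*Q^2 + q^2*Q^2)*e) + ((q^2*Q^2)*d + (-q^2*Q^2 + q^2*Q^3)*e) + (b + (-1 + Q - q + q*Q)*c + (-Q + q - q*Q - q*Q^2 + q*Q^3 + q^3*Q^2)*d + (q*Q^2 - q*Q^3 - q^3*Q^2 + q^3*Q^3)*e) + ((q^2*Q)*c + (-q^2*Q + q^2*Q^3 - q^3*Q^2 + q^3*Q^3)*d + (-q^2*Q^3 + q^3*Q^2 - q^3*Q^3 + q^3*Q^4)*e) = b + (Q + q*Q + q^2*Q)*c + (-1 + Q^2 - q*Q + q*Q^2 + q*Q^3 - q^2*Q + q^2*Q^2 + q^2*Q^3 + q^3*Q^3)*d + (q^3*Q^4)*e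
    ring
  · show ((Q)*e) + ((Q)*d + (-Q + Q^2)*e) + ((q*Q)*d + (-q*Q + q*Q^2)*e) + (c + (-1 + Q^2 - q*Q + q*Q^2)*d + (-Q^2 + q*Q - q*Q^2 + q*Q^3)*e) + ((q^2*Q)*d + (-q^2*Q + q^2*Q^2)*e) + ((q)*c + (-q + q*Q^2 - q^2*Q + q^2*Q^2)*d + (-q*Q^2 + q^2*Q - q^2*Q^2 + q^2*Q^3)*e) + ((q^2)*c + (-q^2 + q^2*Q^2 - q^3*Q + q^3*Q^2)*d + (-q^2*Q^2 + q^3*Q - q^3*Q^2 + q^3*Q^3)*e) + (b + (-1 + Q - q + q*Q - q^2 + q^2*Q)*c + (-Q + q - q*Q - q*Q^2 + q*Q^3 + q^2 - q^2*Q - q^2*Q^2 + q^2*Q^3 + q^3*Q - q^3*Q^2 + q^3*Q^3)*d + (q*Q^2 - q*Q^3 + q^2*Q^2 - q^2*Q^3 - q^3*Q + q^3*Q^2 - q^3*Q^3 + q^3*Q^4)*e) = b + (Q + q*Q + q^2*Q)*c + (-1 + Q^2 - q*Q + q*Q^2 + q*Q^3 - q^2*Q + q^2*Q^2 + q^2*Q^3 + q^3*Q^3)*d + (q^3*Q^4)*e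
    ring
  · show (d + (-1 + Q)*e) + ((Q)*d + (-Q + Q^2)*e) + ((q*Q)*d + (-q*Q + q*Q^2)*e) + ((q*Q^2)*d + (-q*Q^2 + q*Q^3)*e) + ((q^2*Q)*d + (-q^2*Q + q^2*Q^2)*e) + ((q^2*Q^2)*d + (-q^2*Q^2 + q^2*Q^3)*e) + ((q^3*Q^2)*d + (-q^3*Q^2 + q^3*Q^3)*e) + ((q^3*Q^3)*d + (-q^3*Q^3 + q^3*Q^4)*e) = (1 + Q + q*Q + q*Q^2 + q^2*Q + q^2*Q^2 + q^3*Q^2 + q^3*Q^3)*d + (-1 + Q^2 - q*Q + q*Q^3 - q^2*Q + q^2*Q^3 - q^3*Q^2 + q^3*Q^4)*e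
    ring

/-- the words of the collinearity operator -/
def LW : List (List (Fin 4)) :=
  [[3], [2, 3], [1, 2, 3], [2, 1, 2, 3], [0, 1, 2, 3], [0, 2, 1, 2, 3], [1, 0, 2, 1, 2, 3], [2, 1, 0, 2, 1, 2, 3]]

end Cfsg.Agent.H730.Sq.Tab24
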