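import Cfsg.Agent.Nodes.LeviDec

/-!
# The type map of a parabolic subgroup (helper730, S4844)

`Tab A Ω` : the orbit `v : Ω → ℤ^I` of a dominant vector `v o`. In a group `Y` with a root group datum the double cosets
`P_J g B`, `J = {i | ⟨v o, α_i⟩ = 0}`, correspond to `Ω` (`exists_kap`).

`kap_step` : the types of the elements `g u n_i`, `u ∈ X_i`.
-/

set_option autoImplicit false
set_option linter.unusedSectionVars false

namespace Cfsg.Agent.H730.Sq.Typ

open CoxeterSystem Cfsg.Agent.ChevalleyStructure.CoxeterGeom Cfsg.Agent.Tits.Roots Cfsg.Agent.Tits.Core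
  Cfsg.Agent.Tits.Exchange Cfsg.Agent.Nodes.Reps Cfsg.Agent.Nodes.BNOf Cfsg.Agent.Nodes.StabComb
  Cfsg.Agent.Nodes.Bruhat Cfsg.Agent.Nodes.LeviDec

variable {I W Y : Type*} [Fintype I] [DecidableEq I] [Group W] [Group Y] {M : CoxeterMatrix I}
  {cs : CoxeterSystem M W} {A : I → I → ℤ} {h : IsCartan M A} {p : ℕ} {T : Subgroup Y} {n : I → Y}
  {X : (I → ℤ) → Subgroup Y} {Ω : Type}

/-- the orbit of a dominant vector -/
structure Tab (A : I → I → ℤ) (Ω : Type) where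
  v : Ω → I → ℤ
  σ : I → Ω → Ω
  ε : I → Ω → ℤ
  o : Ω
  wd : Ω → List I
  inj : Function.Injective v
  hσ : ∀ i k, refl A i (v k) = v (σ i k)
  hε : ∀ i k, Int.sign (pairing A i (v k)) = ε i k
  dom : Dom A (v o)
  reach : ∀ k, (wd k).foldr σ o = k

variable (D : Tab A Ω)

theorem rep_word (ω : List I) : rep cs h (cs.wordProd ω) (D.v D.o) = D.v (ω.foldr D.σ D.o) := by
  induction ω with
  | nil => rw [wordProd_nil, map_one]; rfl
  | cons i ω ih => rw [wordProd_cons, rep_mul_apply, ih, rep_simple, D.hσ]; rfl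

variable (cs h) in
theorem exists_v (w : W) : ∃ k, rep cs h w (D.v D.o) = D.v k := by
  obtain ⟨ω, rfl⟩ := cs.wordProd_surjective w
  exact ⟨_, rep_word D ω⟩

/-- the type map -/
def IsKap (hN : NSys M T n) (cs : CoxeterSystem M W) (h : IsCartan M A) (X : (I → ℤ) → Subgroup Y) (D : Tab A Ω)
    (κ : Y → Ω) : Prop :=
  ∀ w g, Cell hN cs h X w g → D.v (κ g) = rep cs h w⁻¹ (D.v D.o)

theorem exists_kap [Finite W] (R : RGD cs h p T n X) (hG : GG cs h T X = ⊤) :
    ∃ κ : Y → Ω, IsKap R.nsys cs h X D κ := by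
  have h1 : ∀ g : Y, ∃ k : Ω, ∀ w, Cell R.nsys cs h X w g → D.v k = rep cs h w⁻¹ (D.v D.o) := by
    intro g
    obtain ⟨w, hw⟩ := (mem_GG R).1 (show g ∈ GG cs h T X by rw [hG]; exact Subgroup.mem_top g)
    obtain ⟨k, hk⟩ := exists_v cs h D w⁻¹
    refine ⟨k, fun w' hw' => ?_⟩
    rw [Cell.unique R hw' hw, hk]
  choose κ hκ using h1
  exact ⟨κ, fun w g hg => hκ g w hg⟩

section rules

variable [Finite W] (R : RGD cs h p T n X) (hG : GG cs h T X = ⊤) {κ : Y → Ω} (hκ : IsKap R.nsys cs h X D κ)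

include R hG in
theorem exists_cell (g : Y) : ∃ w, Cell R.nsys cs h X w g :=
  (mem_GG R).1 (show g ∈ GG cs h T X by rw [hG]; exact Subgroup.mem_top g)

include hG hκ in
theorem kap_mul_right {b : Y} (hb : b ∈ RGD.B cs h T X) (g : Y) : κ (g * b) = κ g := by
  obtain ⟨w, hw⟩ := exists_cell R hG g
  apply D.inj
  rw [hκ w g hw, hκ w _ (hw.mul_right hb)]

include hG hκ in
theorem kap_mul_left {q : Y} (hq : q ∈ PJ cs h T X (orth cs h (D.v D.o))) (g : Y) : κ (q * g) = κ g := by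
  let S : Subgroup Y :=
    { carrier := {q | ∀ g, κ (q * g) = κ g}
      one_mem' := fun g => by rw [one_mul]
      mul_mem' := fun {a b} ha hb g => by rw [mul_assoc, ha, hb]
      inv_mem' := fun {a} ha g => by rw [← ha (a⁻¹ * g), mul_inv_cancel_left] }
  have hB : RGD.B cs h T X ≤ S := by
    intro b hb g
    obtain ⟨w, hw⟩ := exists_cell R hG g
    apply D.inj
    rw [hκ w g hw, hκ w _ (hw.mul_left hb)]
  have hn : ∀ i ∈ orth cs h (D.v D.o), n i ∈ S := by
    intro i hi g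
    obtain ⟨w, hw⟩ := exists_cell R hG g
    apply D.inj
    rcases Cell.simple_mul R (cell_of_rp (rp_simple cs R.nsys i)) hw with h1 | ⟨-, h1⟩
    · rw [hκ w g hw, hκ _ _ h1, mul_inv_rev, inv_simple, rep_mul_apply, show rep cs h (cs.simple i) (D.v D.o) = D.v D.o from hi]
    · rw [hκ w g hw, hκ _ _ h1]
  have hsub : orth cs h (D.v D.o) ⊆ {i | n i ∈ S} := fun i hi => hn i hi
  obtain ⟨w, hw, hc⟩ := (mem_PJ_iff_cell R).1 hq
  have : q ∈ S := (cell_mem_iff R hB hc).2 (Subgroup.closure_mono (Set.image_mono hsub) hw)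
  exact this g

include hG hκ in
/-- elements of the same type -/
theorem exists_of_kap_eq {g g' : Y} (hgg : κ g = κ g') :
    ∃ q ∈ PJ cs h T X (orth cs h (D.v D.o)), ∃ b ∈ RGD.B cs h T X, g' = q * g * b := by
  obtain ⟨w, hw⟩ := exists_cell R hG g
  obtain ⟨w', hw'⟩ := exists_cell R hG g'
  have h1 : rep cs h (w' * w⁻¹) (D.v D.o) = D.v D.o := by
    rw [rep_mul_apply, ← hκ w g hw, hgg, hκ w' g' hw', rep_apply_inv]
  have h2 := mem_WJ_of_rep (cs := cs) (h := h) D.dom h1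
  obtain ⟨b₁, hb₁, k, hk, b₂, hb₂, rfl⟩ := hw
  obtain ⟨c₁, hc₁, k', hk', c₂, hc₂, rfl⟩ := hw'
  refine ⟨c₁ * (k' * k⁻¹) * b₁⁻¹, mul_mem (mul_mem (B_le_PJ hc₁) (LJ_le_PJ (rp_mem_LJ R h2 (hk'.mul hk.inv))))
    (inv_mem (B_le_PJ hb₁)), b₂⁻¹ * c₂, mul_mem (inv_mem hb₂) hc₂, ?_⟩
  group

include hG hκ in
/-- the stabiliser of the base point -/
theorem kap_eq_o {g : Y} : κ g = D.o ↔ g ∈ PJ cs h T X (orth cs h (D.v D.o)) := by
  obtain ⟨w, hw⟩ := exists_cell R hG g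
  rw [cell_mem_PJ_iff R hw]
  constructor
  · intro h1
    have h2 := hκ w g hw
    rw [h1] at h2
    have h3 : rep cs h w (D.v D.o) = D.v D.o := by
      conv_lhs => rw [h2]
      rw [rep_apply_inv]
    exact mem_WJ_of_rep D.dom h3
  · intro h1
    apply D.inj
    rw [hκ w g hw]
    exact rep_of_mem_WJ_orth (inv_mem h1)

include R hκ in
theorem exists_kap_eq (k : Ω) : ∃ w g, Rp cs R.nsys w g ∧ κ g = k := by
  obtain ⟨g, hg⟩ := exists_rp (cs := cs) (hN := R.nsys) ((cs.wordProd (D.wd k))⁻¹)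
  refine ⟨_, g, hg, ?_⟩
  apply D.inj
  rw [hκ _ g (cell_of_rp hg), inv_inv, rep_word, D.reach]

/-- right multiplication by `u n_i` -/
theorem step {w : W} {g : Y} (hg : Cell R.nsys cs h X w g) (i : I) {u : Y} (hu : u ∈ X (sr i)) :
    Cell R.nsys cs h X (w * cs.simple i) (g * u * n i) ∨
      (cs.length (w * cs.simple i) < cs.length w ∧ Cell R.nsys cs h X w (g * u * n i)) := by
  have hB : u ∈ RGD.B cs h T X := RGD.X_le_B (isRoot_sr cs h i) (sr_nonneg i) hu
  have h1 : Cell R.nsys cs h X (cs.simple i) (u * n i) := (cell_of_rp (rp_simple cs R.nsys i)).mul_left hB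
  have h1' : Cell R.nsys cs h X (cs.simple i) (u * n i)⁻¹ := by
    have := h1.inv
    rwa [inv_simple] at this
  have e : g * u * n i = ((u * n i)⁻¹ * g⁻¹)⁻¹ := by group
  rcases Cell.simple_mul R h1' hg.inv with h2 | ⟨h0, h2⟩
  · left
    have h3 := h2.inv
    rw [mul_inv_rev, inv_inv, inv_simple] at h3
    rw [e]; exact h3
  · right
    refine ⟨?_, ?_⟩
    · rw [← cs.length_inv w, ← cs.length_inv (w * cs.simple i), mul_inv_rev, inv_simple]
      exact h0
    · have h3 := h2.inv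
      rw [inv_inv] at h3
      rw [e]; exact h3

/-- right multiplication by `u n_i` if the length goes down -/
theorem step_down {w : W} {g : Y} (hg : Cell R.nsys cs h X w g) {i : I}
    (hlen : cs.length (w * cs.simple i) < cs.length w) :
    ∃ u₀ ∈ X (sr i), Cell R.nsys cs h X (w * cs.simple i) (g * u₀ * n i) ∧
      ∀ u ∈ X (sr i), u ≠ u₀ → Cell R.nsys cs h X w (g * u * n i) := by
  obtain ⟨b₁, hb₁, k, hk, b₂, hb₂, rfl⟩ := hg
  obtain ⟨v, hv, u, hu, t, ht, rfl⟩ := R.mem_B' i hb₂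
  have hu0 : t⁻¹ * u⁻¹ * t ∈ X (sr i) := by
    have h1 := R.tor _ (isRoot_sr cs h i) _ (inv_mem ht)
    have h2 : t⁻¹ * u⁻¹ * t⁻¹⁻¹ ∈ cj t⁻¹ (X (sr i)) := conj_mem_cj.2 (inv_mem hu)
    rw [h1, inv_inv] at h2
    exact h2
  have hc0 : Cell R.nsys cs h X (w * cs.simple i) (b₁ * k * (v * u * t) * (t⁻¹ * u⁻¹ * t) * n i) := by
    have hvB : (n i)⁻¹ * v * n i ∈ RGD.B cs h T X := by
      have h3 : v ∈ cj (n i) (RGD.Sup X (RGD.PosNe cs h i)) := by rw [R.cj_n_V i]; exact hv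
      have h4 := mem_cj.1 h3
      exact RGD.U_le_B (RGD.Sup_mono (S' := RGD.Pos cs h) (fun x hx => ⟨hx.1, hx.2.1⟩) h4)
    have htB : (n i)⁻¹ * t * n i ∈ RGD.B cs h T X := by
      have h3 := (mem_normalizer_iff_cj.1 (R.nsys.norm i))
      have h4 : t ∈ cj (n i) T := by rw [h3]; exact ht
      exact RGD.T_le_B (mem_cj.1 h4)
    refine ⟨b₁, hb₁, k * n i, hk.mul (rp_simple cs R.nsys i), ((n i)⁻¹ * v * n i) * ((n i)⁻¹ * t * n i),
      mul_mem hvB htB, ?_⟩
    group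
  refine ⟨_, hu0, hc0, fun u' hu' hne => ?_⟩
  set u₀ := t⁻¹ * u⁻¹ * t with hu₀
  -- `x = n_i⁻¹ u₀⁻¹ u' n_i`
  have hx : (n i)⁻¹ * (u₀⁻¹ * u') * n i ∈ X (-sr i) := by
    have := R.conj_mem' (rp_simple cs R.nsys i) (isRoot_sr cs h i) (mul_mem (inv_mem hu0) hu')
    rwa [inv_simple, rep_simple_sr] at this
  have hx1 : (n i)⁻¹ * (u₀⁻¹ * u') * n i ≠ 1 := by
    intro h5
    apply hne
    have h6 : u₀⁻¹ * u' = 1 := by
      have : u₀⁻¹ * u' = n i * ((n i)⁻¹ * (u₀⁻¹ * u') * n i) * (n i)⁻¹ := by group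
      rw [this, h5]; group
    exact (inv_mul_eq_one.1 h6).symm
  obtain ⟨a, ha, s, hs, c, hc, e⟩ := R.rk1 i _ hx hx1
  have h7 : Cell R.nsys cs h X (cs.simple i) ((n i)⁻¹ * (u₀⁻¹ * u') * n i) := by
    rw [e]
    exact ⟨a * s, mul_mem (RGD.X_le_B (isRoot_sr cs h i) (sr_nonneg i) ha) (RGD.T_le_B hs), n i,
      rp_simple cs R.nsys i, c, RGD.X_le_B (isRoot_sr cs h i) (sr_nonneg i) hc, rfl⟩
  have h8 : cs.length (w * cs.simple i * cs.simple i) = cs.length (w * cs.simple i) + cs.length (cs.simple i) := by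
    rw [simple_mul_simple_cancel_right, cs.length_simple]
    have := cs.length_mul_simple w i
    omega
  have h9 := Cell.mul_of_length R h8 hc0 h7
  rw [simple_mul_simple_cancel_right] at h9
  have e2 : b₁ * k * (v * u * t) * u' * n i =
      b₁ * k * (v * u * t) * u₀ * n i * ((n i)⁻¹ * (u₀⁻¹ * u') * n i) := by group
  rw [e2]
  exact h9

include hG hκ in
/-- **the types of the elements `g u n_i`** -/
theorem kap_step (i : I) (g : Y) :
    (D.ε i (κ g) = 1 ∧ ∀ u ∈ X (sr i), κ (g * u * n i) = D.σ i (κ g)) ∨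
    (D.ε i (κ g) = 0 ∧ ∀ u ∈ X (sr i), κ (g * u * n i) = κ g) ∨
    (D.ε i (κ g) = -1 ∧ ∃ u₀ ∈ X (sr i), κ (g * u₀ * n i) = D.σ i (κ g) ∧
      ∀ u ∈ X (sr i), u ≠ u₀ → κ (g * u * n i) = κ g) := by
  have := Fintype.ofFinite W
  obtain ⟨w, hw⟩ := exists_cell R hG g
  have hvk := hκ w g hw
  have hs : ∀ x, Cell R.nsys cs h X (w * cs.simple i) x → κ x = D.σ i (κ g) := by
    intro x hx
    apply D.inj
    rw [hκ _ _ hx, mul_inv_rev, inv_simple, rep_mul_apply, ← hvk, rep_simple, D.hσ]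
  have hs' : ∀ x, Cell R.nsys cs h X w x → κ x = κ g := by
    intro x hx
    apply D.inj
    rw [hκ _ _ hx, hvk]
  have hform : form cs h (D.v (κ g)) (sr i) = form cs h (D.v D.o) (rep cs h w (sr i)) := by
    rw [hvk]
    conv_rhs => rw [← rep_apply_inv cs h w (D.v D.o)]
    rw [form_rep]
  rcases lt_trichotomy 0 (pairing A i (D.v (κ g))) with h1 | h1 | h1
  · left
    refine ⟨by rw [← D.hε]; exact Int.sign_eq_one_of_pos h1, fun u hu => ?_⟩
    rcases step R hw i hu with h2 | ⟨h0, -⟩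
    · exact hs _ h2
    · exfalso
      have h3 : rep cs h w (sr i) ≤ 0 := nonpos_of_lt cs h w i h0
      have h4 := form_nonneg_of_dom cs h D.dom (neg_nonneg.2 h3)
      rw [form_neg_right, ← hform] at h4
      have h5 := (form_sr_pos_iff cs h i (D.v (κ g))).2 h1
      omega
  · right; left
    refine ⟨by rw [← D.hε, ← h1]; rfl, fun u hu => ?_⟩
    rcases step R hw i hu with h2 | ⟨-, h2⟩
    · rw [hs _ h2]
      apply D.inj
      rw [← D.hσ, refl_apply, ← h1, Pi.single_zero, sub_zero]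
    · exact hs' _ h2
  · right; right
    refine ⟨by rw [← D.hε]; exact Int.sign_eq_neg_one_of_neg h1, ?_⟩
    have hlen : cs.length (w * cs.simple i) < cs.length w := by
      by_contra h2
      have h3 := cs.length_mul_simple w i
      have h4 : 0 ≤ rep cs h w (sr i) := nonneg_of_lt cs h w i (by omega)
      have h5 := form_nonneg_of_dom cs h D.dom h4
      rw [← hform] at h5
      have h6 := (form_sr_nonneg_iff cs h i (D.v (κ g))).1 h5
      omega
    obtain ⟨u₀, hu₀, h2, h3⟩ := step_down R hw hlen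
    exact ⟨u₀, hu₀, hs _ h2, fun u hu hne => hs' _ (h3 u hu hne)⟩

end rules

end Cfsg.Agent.H730.Sq.Typ
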